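import Mathlib.AlgebraicGeometry.PullbackCarrier
import Mathlib.AlgebraicGeometry.Morphisms.UnderlyingMap

/-!
# Range of the projections of a pullback square of schemes
-/

set_option autoImplicit false
universe u

namespace Groth.Agent.H5

open AlgebraicGeometry CategoryTheory CategoryTheory.Limits

variable {X S X' S' : Scheme.{u}} {f : X ⟶ S} {g : S' ⟶ S} {g' : X' ⟶ X} {f' : X' ⟶ S'}

/-- In a pullback square, a pair of points with the same image lifts. -/
lemma IsPullback.exists_preimage (hsq : IsPullback g' f' f g) (x : X) (s' : S')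
    (h : f.base x = g.base s') : ∃ x' : X', g'.base x' = x ∧ f'.base x' = s' := by
  obtain ⟨z, hz1, hz2⟩ := Scheme.Pullback.exists_preimage_pullback (f := f) (g := g) x s' h
  refine ⟨hsq.isoPullback.inv.base z, ?_, ?_⟩
  · rw [← Scheme.Hom.comp_apply, hsq.isoPullback_inv_fst]; exact hz1
  · rw [← Scheme.Hom.comp_apply, hsq.isoPullback_inv_snd]; exact hz2

lemma IsPullback.range_snd (hsq : IsPullback g' f' f g) :
    Set.range f'.base = g.base ⁻¹' Set.range f.base := by
  ext s'
  constructor
  · rintro ⟨x', rfl⟩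
    refine ⟨g'.base x', ?_⟩
    rw [← Scheme.Hom.comp_apply, ← Scheme.Hom.comp_apply, hsq.w]
  · rintro ⟨x, hx⟩
    obtain ⟨x', -, hx'⟩ := IsPullback.exists_preimage hsq x s' hx
    exact ⟨x', hx'⟩

lemma IsPullback.range_fst (hsq : IsPullback g' f' f g) :
    Set.range g'.base = f.base ⁻¹' Set.range g.base := by
  ext x
  constructor
  · rintro ⟨x', rfl⟩
    refine ⟨f'.base x', ?_⟩
    rw [← Scheme.Hom.comp_apply, ← Scheme.Hom.comp_apply, hsq.w]
  · rintro ⟨s', hs'⟩
    obtain ⟨x', hx', -⟩ := IsPullback.exists_preimage hsq x s' hs'.symm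
    exact ⟨x', hx'⟩

end Groth.Agent.H5
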