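import Groth.Prelude.Def_Found
import Mathlib.RingTheory.Spectrum.Prime.RingHom
import Mathlib.RingTheory.Localization.Ideal
import Mathlib.Order.Cover
import Mathlib.Order.RelSeries

set_option autoImplicit false
universe u

namespace Groth.Agent.H5

/-- The order-theoretic content of `CAlg.IsCatenary`. -/
def OrderCatenary (α : Type*) [PartialOrder α] : Prop :=
  (∀ p q : α, p ≤ q → ∃ n : ℕ, ∀ s : LTSeries α,
      s.head = p → s.last = q → s.length ≤ n) ∧
  ∀ s t : LTSeries α, s.head = t.head → s.last = t.last →
    (∀ i : Fin s.length, s (Fin.castSucc i) ⋖ s (Fin.succ i)) →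
    (∀ i : Fin t.length, t (Fin.castSucc i) ⋖ t (Fin.succ i)) →
    s.length = t.length

theorem isCatenary_iff_orderCatenary (R : Type u) [CommRing R] :
    CAlg.IsCatenary R ↔ OrderCatenary (PrimeSpectrum R) := Iff.rfl

theorem OrderCatenary.of_embedding {α β : Type*} [PartialOrder α] [PartialOrder β]
    (e : β ↪o α) (he : (Set.range e).OrdConnected) (h : OrderCatenary α) : OrderCatenary β := by
  refine ⟨?_, ?_⟩
  · intro p q hpq
    obtain ⟨n, hn⟩ := h.1 (e p) (e q) (e.monotone hpq)
    refine ⟨n, fun s hs hl => ?_⟩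
    have := hn (s.map e e.strictMono) (by rw [LTSeries.head_map, hs]) (by rw [LTSeries.last_map, hl])
    simpa using this
  · intro s t hh hl hs ht
    have := h.2 (s.map e e.strictMono) (t.map e e.strictMono)
      (by rw [LTSeries.head_map, LTSeries.head_map, hh])
      (by rw [LTSeries.last_map, LTSeries.last_map, hl])
      (fun i => by
        exact (he.apply_covBy_apply_iff e).mpr (hs i))
      (fun i => by
        exact (he.apply_covBy_apply_iff e).mpr (ht i))
    simpa using this

theorem OrderCatenary.of_orderIso_subtype {α β : Type*} [PartialOrder α] [PartialOrder β]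
    (S : Set α) (hS : S.OrdConnected) (e : β ≃o S) (h : OrderCatenary α) : OrderCatenary β := by
  refine OrderCatenary.of_embedding (e.toOrderEmbedding.trans (OrderEmbedding.subtype _)) ?_ h
  have : Set.range (e.toOrderEmbedding.trans (OrderEmbedding.subtype (· ∈ S))) = S := by
    ext x
    constructor
    · rintro ⟨y, rfl⟩
      exact (e y).2
    · intro hx
      exact ⟨e.symm ⟨x, hx⟩, by simp⟩
  rw [this]
  exact hS

theorem isCatenary_quotient (A : Type u) [CommRing A] (I : Ideal A) (hA : CAlg.IsCatenary A) :
    CAlg.IsCatenary (A ⧸ I) := by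
  rw [isCatenary_iff_orderCatenary] at hA ⊢
  refine OrderCatenary.of_orderIso_subtype (PrimeSpectrum.zeroLocus (I : Set A)) ?_
    I.primeSpectrumQuotientOrderIsoZeroLocus hA
  apply IsUpperSet.ordConnected
  intro p q hpq hp
  exact fun x hx => hpq (hp hx)

theorem isCatenary_of_isLocalization (A : Type u) [CommRing A] (S : Submonoid A) (B : Type u)
    [CommRing B] [Algebra A B] [IsLocalization S B] (hA : CAlg.IsCatenary A) :
    CAlg.IsCatenary B := by
  rw [isCatenary_iff_orderCatenary] at hA ⊢
  refine OrderCatenary.of_orderIso_subtype {p : PrimeSpectrum A | Disjoint (S : Set A) p.asIdeal} ?_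
    (IsLocalization.primeSpectrumOrderIso S B) hA
  apply IsLowerSet.ordConnected
  intro p q hpq hp
  exact Set.disjoint_of_subset_right hpq hp

theorem OrderCatenary.of_orderIso {α β : Type*} [PartialOrder α] [PartialOrder β]
    (e : β ≃o α) (h : OrderCatenary α) : OrderCatenary β := by
  refine OrderCatenary.of_embedding e.toOrderEmbedding ?_ h
  have : Set.range e.toOrderEmbedding = Set.univ := e.surjective.range_eq
  rw [this]
  exact Set.ordConnected_univ

/-- Lift a series all of whose members lie in `S` to a series in the subtype. -/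
def liftSeries {α : Type*} [PartialOrder α] (S : Set α) (s : LTSeries α) (h : ∀ i, s i ∈ S) :
    LTSeries S where
  length := s.length
  toFun i := ⟨s i, h i⟩
  step i := s.step i

theorem OrderCatenary.of_upperSet_cover {α : Type*} [PartialOrder α]
    (h : ∀ p : α, ∃ S : Set α, p ∈ S ∧ IsUpperSet S ∧ OrderCatenary S) : OrderCatenary α := by
  have hmem : ∀ (S : Set α), IsUpperSet S → ∀ s : LTSeries α, s.head ∈ S → ∀ i, s i ∈ S := by
    intro S hS s hs i
    exact hS (LTSeries.head_le s i) hs
  refine ⟨?_, ?_⟩
  · intro p q hpq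
    obtain ⟨S, hpS, hS, hcat⟩ := h p
    obtain ⟨n, hn⟩ := hcat.1 ⟨p, hpS⟩ ⟨q, hS hpq hpS⟩ hpq
    refine ⟨n, fun s hs hl => ?_⟩
    have hsS : ∀ i, s i ∈ S := hmem S hS s (by rw [hs]; exact hpS)
    exact hn (liftSeries S s hsS) (Subtype.ext hs) (Subtype.ext hl)
  · intro s t hh hl hs ht
    obtain ⟨S, hpS, hS, hcat⟩ := h s.head
    have hsS : ∀ i, s i ∈ S := hmem S hS s hpS
    have htS : ∀ i, t i ∈ S := hmem S hS t (by rw [← hh]; exact hpS)
    have hrange : (Set.range (OrderEmbedding.subtype (· ∈ S))).OrdConnected := by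
      have : Set.range (OrderEmbedding.subtype (· ∈ S)) = S := by
        ext x; simp
      rw [this]
      exact hS.ordConnected
    refine hcat.2 (liftSeries S s hsS) (liftSeries S t htS) (Subtype.ext hh) (Subtype.ext hl) ?_ ?_
    · intro i
      exact (hrange.apply_covBy_apply_iff (OrderEmbedding.subtype (· ∈ S))).mp (hs i)
    · intro i
      exact (hrange.apply_covBy_apply_iff (OrderEmbedding.subtype (· ∈ S))).mp (ht i)

theorem isCatenary_iff_forall_quotient_minimalPrimes (R : Type u) [CommRing R] :
    CAlg.IsCatenary R ↔ ∀ p ∈ minimalPrimes R, CAlg.IsCatenary (R ⧸ p) := by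
  constructor
  · intro h p _
    exact isCatenary_quotient R p h
  · intro h
    rw [isCatenary_iff_orderCatenary]
    apply OrderCatenary.of_upperSet_cover
    intro p
    obtain ⟨p0, hp0, hle⟩ := Ideal.exists_minimalPrimes_le (I := (⊥ : Ideal R)) (J := p.asIdeal) bot_le
    refine ⟨PrimeSpectrum.zeroLocus (p0 : Set R), ?_, ?_, ?_⟩
    · exact hle
    · intro a b hab ha
      exact fun x hx => hab (ha hx)
    · have := h p0 hp0
      rw [isCatenary_iff_orderCatenary] at this
      exact OrderCatenary.of_orderIso p0.primeSpectrumQuotientOrderIsoZeroLocus.symm this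

end Groth.Agent.H5
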