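import Mathlib.AlgebraicGeometry.Morphisms.QuasiCompact
import Mathlib.AlgebraicGeometry.Morphisms.UnderlyingMap
import Mathlib.RingTheory.Spectrum.Prime.Topology

/-!
# The closure of the image of a quasi-compact morphism

For a quasi-compact morphism `f : X ⟶ S`, every point of the closure of the image is a
specialization of a point of the image.
-/

set_option autoImplicit false
universe u

namespace Groth.Agent.H5

open AlgebraicGeometry CategoryTheory CategoryTheory.Limits

/-- Affine case. -/
lemma exists_specializes_of_mem_closure_range_Spec {A B : CommRingCat.{u}} (φ : A ⟶ B)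
    (t : Spec A) (ht : t ∈ closure (Set.range (Spec.map φ).base)) :
    ∃ y : Spec B, (Spec.map φ).base y ⤳ t := by
  let t' : PrimeSpectrum A := t
  have h1 : t' ∈ closure (Set.range (PrimeSpectrum.comap φ.hom)) := ht
  rw [PrimeSpectrum.closure_range_comap, PrimeSpectrum.mem_zeroLocus] at h1
  have h2 : Ideal.comap φ.hom ⊥ ≤ t'.asIdeal := by
    rw [← RingHom.ker_eq_comap_bot]; exact h1
  obtain ⟨Q, -, hQ, hQle⟩ := Ideal.exists_ideal_comap_le_prime t'.asIdeal (⊥ : Ideal B) h2
  refine ⟨(⟨Q, hQ⟩ : PrimeSpectrum B), ?_⟩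
  exact (PrimeSpectrum.le_iff_specializes (⟨Q.comap φ.hom, inferInstance⟩ : PrimeSpectrum A) t').mp
    hQle

/-- For a quasi-compact morphism, every point in the closure of the image is a specialization of
a point in the image. -/
theorem exists_specializes_of_mem_closure_range {X S : Scheme.{u}} (f : X ⟶ S) [QuasiCompact f]
    (s : S) (hs : s ∈ closure (Set.range f.base)) : ∃ x : X, f.base x ⤳ s := by
  -- an affine open neighbourhood of `s`
  obtain ⟨U, hU, hsU, -⟩ := (TopologicalSpace.Opens.isBasis_iff_nbhd.mp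
    (Scheme.isBasis_affineOpens S)) (show s ∈ (⊤ : S.Opens) from trivial)
  have hU' : IsAffineOpen U := hU
  have hW : IsCompact ((f ⁻¹ᵁ U : X.Opens) : Set X) := f.isCompact_preimage hU'.isCompact
  obtain ⟨R, g, hg⟩ := isCompact_iff_exists.mp hW
  have hrange : Set.range (g ≫ f).base ⊆ Set.range hU'.fromSpec.base := by
    rw [hU'.range_fromSpec]
    rintro _ ⟨y, rfl⟩
    have : g.base y ∈ ((f ⁻¹ᵁ U : X.Opens) : Set X) := by rw [← hg]; exact ⟨y, rfl⟩
    exact this
  let k : Spec R ⟶ Spec Γ(S, U) := IsOpenImmersion.lift hU'.fromSpec (g ≫ f) hrange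
  have hk : k ≫ hU'.fromSpec = g ≫ f := IsOpenImmersion.lift_fac _ _ _
  -- the point `t` above `s`
  obtain ⟨t, ht⟩ : ∃ t : Spec Γ(S, U), hU'.fromSpec.base t = s := by
    have : s ∈ Set.range hU'.fromSpec.base := by rw [hU'.range_fromSpec]; exact hsU
    exact this
  have hemb : Topology.IsOpenEmbedding hU'.fromSpec.base := hU'.fromSpec.isOpenEmbedding
  have htcl : t ∈ closure (Set.range k.base) := by
    rw [hemb.isEmbedding.closure_eq_preimage_closure_image]
    show hU'.fromSpec.base t ∈ closure (hU'.fromSpec.base '' Set.range k.base)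
    rw [ht]
    have himg : hU'.fromSpec.base '' Set.range k.base = (U : Set S) ∩ Set.range f.base := by
      ext z
      constructor
      · rintro ⟨_, ⟨y, rfl⟩, rfl⟩
        have h1 : hU'.fromSpec.base (k.base y) = f.base (g.base y) := by
          rw [← Scheme.Hom.comp_apply, hk, Scheme.Hom.comp_apply]
        rw [h1]
        refine ⟨?_, ⟨g.base y, rfl⟩⟩
        have : g.base y ∈ ((f ⁻¹ᵁ U : X.Opens) : Set X) := by rw [← hg]; exact ⟨y, rfl⟩
        exact this
      · rintro ⟨hzU, x, rfl⟩
        have hx : x ∈ Set.range g.base := by rw [hg]; exact hzU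
        obtain ⟨y, rfl⟩ := hx
        refine ⟨k.base y, ⟨y, rfl⟩, ?_⟩
        rw [← Scheme.Hom.comp_apply, hk, Scheme.Hom.comp_apply]
    rw [himg]
    exact U.isOpen.inter_closure ⟨hsU, hs⟩
  -- reduce to the affine case
  have hkφ : Spec.map (Spec.preimage k) = k := Spec.map_preimage k
  rw [← hkφ] at htcl
  obtain ⟨y, hy⟩ := exists_specializes_of_mem_closure_range_Spec (Spec.preimage k) t htcl
  rw [hkφ] at hy
  refine ⟨g.base y, ?_⟩
  have h1 : f.base (g.base y) = hU'.fromSpec.base (k.base y) := by
    rw [← Scheme.Hom.comp_apply, ← hk, Scheme.Hom.comp_apply]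
  rw [h1, ← ht]
  exact hy.map hU'.fromSpec.continuous

end Groth.Agent.H5
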