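import Groth.Agent.Lib.Helper5.Wronskian
import Mathlib.Algebra.Polynomial.AlgebraMap
import Mathlib.Algebra.Polynomial.RingDivision
import Mathlib.Algebra.Polynomial.BigOperators

/-! The Plücker inequality for spaces of polynomials (characteristic zero) (helper5). -/

set_option autoImplicit false

namespace H5W

open Polynomial Module

variable {k : Type*} [Field k]

/-- Polynomials divisible by `(X - a)^n`. -/
noncomputable def Fa (a : k) (n : ℕ) : Submodule k k[X] :=
  (Ideal.span {(X - C a) ^ n}).restrictScalars k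

lemma mem_Fa {a : k} {n : ℕ} {f : k[X]} : f ∈ Fa a n ↔ (X - C a) ^ n ∣ f := by
  rw [Fa, Submodule.restrictScalars_mem, Ideal.mem_span_singleton]

lemma mem_Fa_iff_coeff {a : k} {n : ℕ} {f : k[X]} :
    f ∈ Fa a n ↔ ∀ t < n, (taylor a f).coeff t = 0 := by
  rw [mem_Fa, X_sub_C_pow_dvd_iff, X_pow_dvd_iff, taylor_apply]

lemma Fa_antitone (a : k) : Antitone (Fa a) := by
  intro n n' h f hf
  rw [mem_Fa] at hf ⊢
  exact (pow_dvd_pow _ h).trans hf

lemma Fa_zero (a : k) : Fa a 0 = ⊤ := by
  ext f; simp [mem_Fa]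

lemma Fa_step (a : k) (U : Submodule k k[X]) [FiniteDimensional k U] (n : ℕ) :
    finrank k ↥(U ⊓ Fa a n) ≤ finrank k ↥(U ⊓ Fa a (n + 1)) + 1 := by
  refine finrank_inf_le_succ U _ _ ((lcoeff k n).comp (taylor a)) ?_
  intro f hf h0
  rw [mem_Fa_iff_coeff] at hf ⊢
  intro t ht
  rcases Nat.lt_succ_iff_lt_or_eq.1 ht with h | rfl
  · exact hf t h
  · exact h0

lemma inf_Fa_eq_bot (a : k) {U : Submodule k k[X]} {d : ℕ} (hU : U ≤ degreeLT k (d + 1)) :
    U ⊓ Fa a (d + 1) = ⊥ := by
  rw [eq_bot_iff]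
  rintro f ⟨hfU, hf⟩
  rw [Submodule.mem_bot]
  by_contra hne
  have hdeg := mem_degreeLT.1 (hU hfU)
  rw [SetLike.mem_coe, mem_Fa] at hf
  have h1 := natDegree_le_of_dvd hf hne
  rw [natDegree_pow, natDegree_X_sub_C, mul_one] at h1
  have h2 : f.natDegree < d + 1 := (natDegree_lt_iff_degree_lt hne).2 hdeg
  omega

/-- The degree filtration `Fd n = {deg < d + 1 - n}`. -/
noncomputable def Fd (d n : ℕ) : Submodule k k[X] := degreeLT k (d + 1 - n)

lemma Fd_antitone (d : ℕ) : Antitone (Fd (k := k) d) := by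
  intro n n' h
  exact degreeLT_mono (by omega)

lemma Fd_step (d : ℕ) (U : Submodule k k[X]) [FiniteDimensional k U] (n : ℕ) :
    finrank k ↥(U ⊓ Fd d n) ≤ finrank k ↥(U ⊓ Fd d (n + 1)) + 1 := by
  refine finrank_inf_le_succ U _ _ (lcoeff k (d - n)) ?_
  intro f hf h0
  rw [Fd, mem_degreeLT] at hf ⊢
  by_cases hn : n ≤ d
  · rw [degree_lt_iff_coeff_zero] at hf ⊢
    intro t ht
    rcases Nat.lt_or_ge t (d + 1 - n) with h | h
    · have : t = d - n := by omega
      rw [this]; exact h0
    · exact hf t h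
  · have h1 : d + 1 - n = 0 := by omega
    have h2 : d + 1 - (n + 1) = 0 := by omega
    rw [h1] at hf
    rw [h2]
    exact hf

lemma inf_Fd_eq_bot {U : Submodule k k[X]} {d : ℕ} : U ⊓ Fd (k := k) d (d + 1) = ⊥ := by
  rw [Fd, Nat.sub_self, degreeLT, ]
  rw [eq_bot_iff]
  rintro f ⟨-, hf⟩
  have := mem_degreeLT.1 hf
  simp only [Nat.cast_zero] at this
  rw [Submodule.mem_bot]
  by_contra hne
  have h1 := degree_eq_natDegree hne
  rw [h1] at this
  exact absurd this (by simp)

/-- Expressing a family in `U` through a basis-size independent family in `U`. -/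
lemma exists_matrix_of_linearIndependent {M : Type*} [AddCommGroup M] [Module k M]
    {s : ℕ} {U : Submodule k M} [FiniteDimensional k U] (hU : finrank k U = s)
    {g : Fin s → M} (hg : LinearIndependent k g) (hgU : ∀ i, g i ∈ U)
    {f : Fin s → M} (hf : ∀ j, f j ∈ U) :
    ∃ c : Matrix (Fin s) (Fin s) k, f = fun j => ∑ l, c l j • g l := by
  have hspan : Submodule.span k (Set.range g) = U := by
    apply Submodule.eq_of_le_of_finrank_eq
    · rw [Submodule.span_le]; rintro _ ⟨i, rfl⟩; exact hgU i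
    · rw [finrank_span_eq_card hg, hU, Fintype.card_fin]
  have : ∀ j, ∃ c : Fin s → k, ∑ l, c l • g l = f j := fun j => by
    have := hf j
    rw [← hspan] at this
    exact (Submodule.mem_span_range_iff_exists_fun k).1 this
  choose c hc using this
  exact ⟨Matrix.of fun l j => c j l, funext fun j => (hc j).symm⟩


lemma le_of_strictMono_fin {n : ℕ} {m : Fin n → ℕ} (hm : StrictMono m) (i : Fin n) :
    (i : ℕ) ≤ m i := by
  obtain ⟨i, hi⟩ := i
  induction i with
  | zero => exact Nat.zero_le _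
  | succ j ih =>
    have h1 := ih (by omega)
    have h2 : m ⟨j, by omega⟩ < m ⟨j + 1, hi⟩ := hm (by simp [Fin.lt_def])
    simp only at h1 ⊢
    omega

lemma sum_fin_val (r : ℕ) : ∑ i : Fin (r + 1), (i : ℕ) = r * (r + 1) / 2 := by
  rw [Fin.sum_univ_eq_sum_range (fun i => i) (r + 1), Finset.sum_range_id, Nat.add_sub_cancel,
    mul_comm]

/-- **Plücker inequality** for a space of polynomials of degree `≤ d`, characteristic zero:
the total weight at finitely many finite points is at most `(r+1)(d-r)`. -/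
theorem poly_plucker [CharZero k] {U : Submodule k k[X]} {d r : ℕ}
    (hUd : U ≤ degreeLT k (d + 1)) [FiniteDimensional k U] (hUr : finrank k U = r + 1)
    (S : Finset k) :
    ∑ a ∈ S, ((∑ n ∈ Finset.range d, finrank k ↥(U ⊓ Fa a (n + 1))) - r * (r + 1) / 2) +
      r * (r + 1) ≤ (r + 1) * d := by
  classical
  have hN := sum_fin_val r
  have h2N : 2 * (r * (r + 1) / 2) = r * (r + 1) :=
    Nat.two_mul_div_two_of_even (Nat.even_mul_succ_self r)
  -- adapted basis at `0`, nonvanishing of the Wronskian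
  obtain ⟨g0, m0, hm0, hg0, hli0, -⟩ := exists_adapted_basis (Fa (0 : k)) (Fa_antitone 0)
    (fun U _ n => Fa_step 0 U n) (d + 1) (r + 1) U inferInstance hUr
    (by rw [Fa_zero]; exact le_top) (inf_Fa_eq_bot 0 hUd)
  have hW : wr g0 ≠ 0 := by
    refine wr_ne_zero g0 m0 hm0.injective (fun j => ?_) (fun j => ?_)
    · have := mem_Fa.1 (hg0 j).2.1
      simpa using this
    · have h1 := mem_Fa_iff_coeff.1 (hg0 j).2.1
      have h2 := (hg0 j).2.2
      rw [mem_Fa_iff_coeff] at h2
      intro h0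
      apply h2
      intro t ht
      rcases Nat.lt_succ_iff_lt_or_eq.1 ht with h | rfl
      · exact h1 t h
      · rw [taylor_zero]; exact h0
  -- divisibility at each point
  have hdiv : ∀ a : k, (X - C a) ^ ((∑ n ∈ Finset.range d, finrank k ↥(U ⊓ Fa a (n + 1))) -
      r * (r + 1) / 2) ∣ wr g0 := by
    intro a
    obtain ⟨ga, ma, -, hga, hlia, hsuma⟩ := exists_adapted_basis (Fa a) (Fa_antitone a)
      (fun U _ n => Fa_step a U n) (d + 1) (r + 1) U inferInstance hUr
      (by rw [Fa_zero]; exact le_top) (inf_Fa_eq_bot a hUd)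
    rw [Finset.sum_range_succ, inf_Fa_eq_bot a hUd, finrank_bot, add_zero] at hsuma
    obtain ⟨c, hc⟩ := exists_matrix_of_linearIndependent hUr hlia (fun i => (hga i).1)
      (f := g0) (fun j => (hg0 j).1)
    have h1 := pow_dvd_wr ga (X - C a) ma (fun j => mem_Fa.1 (hga j).2.1)
    rw [hc, wr_comb, hsuma, ← hN, smul_eq_C_mul]
    exact Dvd.dvd.mul_left h1 _
  -- degree
  have hdeg : natDegree (wr g0) + r * (r + 1) ≤ (r + 1) * d := by
    obtain ⟨gd, md, hmd, hgd, hlid, -⟩ := exists_adapted_basis (Fd (k := k) d) (Fd_antitone d)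
      (fun U _ n => Fd_step d U n) (d + 1) (r + 1) U inferInstance hUr
      (by rw [Fd]; exact hUd) inf_Fd_eq_bot
    obtain ⟨c, hc⟩ := exists_matrix_of_linearIndependent hUr hlid (fun i => (hgd i).1)
      (f := g0) (fun j => (hg0 j).1)
    have hWd : wr g0 = c.det • wr gd := by rw [hc, wr_comb]
    have hdet : c.det ≠ 0 := by
      intro h0; rw [hWd, h0, zero_smul] at hW; exact hW rfl
    have hWd0 : wr gd ≠ 0 := by
      intro h0; rw [hWd, h0, smul_zero] at hW; exact hW rfl
    have h1 := natDegree_wr_le gd hWd0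
    rw [hN] at h1
    have h2 : natDegree (wr g0) = natDegree (wr gd) := by
      rw [hWd, natDegree_smul _ hdet]
    have h3 : ∀ i, natDegree (gd i) + md i ≤ d := by
      intro i
      have hne : gd i ≠ 0 := fun h0 => (hgd i).2.2 (by rw [h0]; exact Submodule.zero_mem _)
      have hmem := (hgd i).2.1
      rw [Fd, mem_degreeLT, ← natDegree_lt_iff_degree_lt hne] at hmem
      omega
    have h4 : ∑ i, natDegree (gd i) + ∑ i, md i ≤ (r + 1) * d := by
      rw [← Finset.sum_add_distrib]
      calc ∑ i, (natDegree (gd i) + md i) ≤ ∑ _i : Fin (r + 1), d :=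
            Finset.sum_le_sum (fun i _ => h3 i)
        _ = (r + 1) * d := by simp
    have h5 : r * (r + 1) / 2 ≤ ∑ i, md i := by
      rw [← hN]
      exact Finset.sum_le_sum (fun i _ => le_of_strictMono_fin hmd i)
    omega
  -- product of coprime factors
  have hprod : ∏ a ∈ S, (X - C a) ^ ((∑ n ∈ Finset.range d, finrank k ↥(U ⊓ Fa a (n + 1))) -
      r * (r + 1) / 2) ∣ wr g0 := by
    refine Finset.prod_dvd_of_coprime (fun a _ b _ hab => ?_) (fun a _ => hdiv a)
    exact IsCoprime.pow (isCoprime_X_sub_C_of_isUnit_sub (sub_ne_zero.2 hab).isUnit)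
  have h6 := natDegree_le_of_dvd hprod hW
  rw [natDegree_prod_of_monic _ _ (fun a _ => (monic_X_sub_C a).pow _)] at h6
  simp only [natDegree_pow, natDegree_X_sub_C, mul_one] at h6
  omega

end H5W
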