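import Groth.Prelude.Def_Found
import Mathlib.RingTheory.Localization.Integral
import Mathlib.RingTheory.Localization.LocalizationLocalization
import Mathlib.RingTheory.Localization.Finiteness

/-! Integral closure and localization; independence of N-1 / N-2 from the choice of fraction field. -/

namespace Groth.Agent.H5

universe u

/-- Finiteness of the integral closure passes to a localization of the base. -/
theorem finite_integralClosure_of_isLocalization
    {R : Type*} [CommRing R] (M : Submonoid R) (S : Type*) [CommRing S] [Algebra R S]
    [IsLocalization M S]
    (L : Type*) [CommRing L] [Algebra R L] [Algebra S L] [IsScalarTower R S L]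
    (h : Module.Finite R (integralClosure R L)) : Module.Finite S (integralClosure S L) := by
  have hA : (Subalgebra.toSubmodule (integralClosure R L)).FG := Module.Finite.iff_fg.mp h
  obtain ⟨s, hs⟩ := hA
  have key : Subalgebra.toSubmodule (integralClosure S L) = Submodule.span S (s : Set L) := by
    apply le_antisymm
    · intro b hb
      obtain ⟨m, hm⟩ := IsIntegral.exists_multiple_integral_of_isLocalization M b hb
      have h1 : m • b ∈ Submodule.span R (s : Set L) := by rw [hs]; exact hm
      have h2 : m • b ∈ Submodule.span S (s : Set L) :=
        Submodule.span_le_restrictScalars R S _ h1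
      have h3 : b = (IsLocalization.mk' S (1 : R) m) • (m • b) := by
        rw [Submonoid.smul_def, ← algebraMap_smul S (m : R) b, smul_smul,
          IsLocalization.mk'_spec, map_one, one_smul]
      rw [h3]
      exact Submodule.smul_mem _ _ h2
    · rw [Submodule.span_le]
      intro a ha
      have : a ∈ Subalgebra.toSubmodule (integralClosure R L) := hs ▸ Submodule.subset_span ha
      exact IsIntegral.tower_top this
  exact Module.Finite.iff_fg.mpr ⟨s, key.symm⟩


/-- A submonoid with a nontrivial localization of a domain consists of non-zero-divisors. -/
theorem le_nonZeroDivisors_of_isLocalization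
    {R : Type*} [CommRing R] [IsDomain R] (M : Submonoid R)
    (S : Type*) [CommRing S] [Nontrivial S] [Algebra R S] [IsLocalization M S] :
    M ≤ nonZeroDivisors R := by
  intro m hm
  rw [mem_nonZeroDivisors_iff_ne_zero]
  rintro rfl
  have := IsLocalization.map_units S (⟨0, hm⟩ : M)
  simp at this

/-- The fraction field of a localization `S` of a domain `R` is a fraction field of `R`. -/
theorem isFractionRing_of_isLocalization_of_isFractionRing
    {R : Type*} [CommRing R] [IsDomain R] (M : Submonoid R)
    (S : Type*) [CommRing S] [IsDomain S] [Algebra R S] [IsLocalization M S]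
    (K : Type*) [CommRing K] [Algebra R K] [Algebra S K] [IsScalarTower R S K]
    [IsFractionRing S K] : IsFractionRing R K := by
  have h1 := IsLocalization.localization_localization_isLocalization_of_has_all_units M
    (nonZeroDivisors S) K (fun x hx => hx.mem_nonZeroDivisors)
  have hinj : Function.Injective (algebraMap R S) :=
    IsLocalization.injective S (le_nonZeroDivisors_of_isLocalization M S)
  have h2 : (nonZeroDivisors S).comap (algebraMap R S) = nonZeroDivisors R := by
    ext x
    rw [Submonoid.mem_comap, mem_nonZeroDivisors_iff_ne_zero, mem_nonZeroDivisors_iff_ne_zero,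
      map_ne_zero_iff _ hinj]
  rw [h2] at h1
  exact h1

/-- N-1 can be tested in any fraction field. -/
theorem isN1_iff (R : Type u) [CommRing R] [IsDomain R]
    (K : Type*) [CommRing K] [Algebra R K] [IsFractionRing R K] :
    CAlg.IsN1 R ↔ Module.Finite R (integralClosure R K) := by
  let e : FractionRing R ≃ₐ[R] K := FractionRing.algEquiv R K
  have he : Subalgebra.map (e : FractionRing R →ₐ[R] K) (integralClosure R (FractionRing R))
      = integralClosure R K := integralClosure_map_algEquiv e
  let e' : integralClosure R (FractionRing R) ≃ₐ[R] integralClosure R K :=
    ((integralClosure R (FractionRing R)).equivMapOfInjective (e : FractionRing R →ₐ[R] K)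
      e.injective).trans (Subalgebra.equivOfEq _ _ he)
  unfold CAlg.IsN1
  constructor
  · intro h
    exact Module.Finite.equiv e'.toLinearEquiv
  · intro h
    exact Module.Finite.equiv e'.symm.toLinearEquiv


/-- N-2 can be tested with any fraction field `K` of `R`. -/
theorem isN2_iff (R : Type u) [CommRing R] [IsDomain R]
    (K : Type*) [Field K] [Algebra R K] [IsFractionRing R K] :
    CAlg.IsN2 R ↔ ∀ (L : Type u) [Field L] [Algebra R L] [Algebra K L] [IsScalarTower R K L],
      FiniteDimensional K L → Module.Finite R (integralClosure R L) := by
  let e : FractionRing R ≃ₐ[R] K := FractionRing.algEquiv R K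
  constructor
  · intro h L _ _ _ _ hfin
    let _ : Algebra (FractionRing R) L :=
      ((algebraMap K L).comp (e : FractionRing R →+* K)).toAlgebra
    have htower : IsScalarTower R (FractionRing R) L := by
      refine IsScalarTower.of_algebraMap_eq (fun r => ?_)
      change algebraMap R L r = algebraMap K L (e (algebraMap R (FractionRing R) r))
      rw [e.commutes, ← IsScalarTower.algebraMap_apply]
    have hfin' : FiniteDimensional (FractionRing R) L :=
      Module.Finite.of_equiv_equiv (A₁ := K) (B₁ := L) (A₂ := FractionRing R) (B₂ := L)
        (e.symm : K ≃+* FractionRing R) (RingEquiv.refl L) (by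
          ext x
          change algebraMap K L (e (e.symm x)) = algebraMap K L x
          rw [e.apply_symm_apply])
    exact h L hfin'
  · intro h L _ _ _ _ hfin
    let _ : Algebra K L :=
      ((algebraMap (FractionRing R) L).comp (e.symm : K →+* FractionRing R)).toAlgebra
    have htower : IsScalarTower R K L := by
      refine IsScalarTower.of_algebraMap_eq (fun r => ?_)
      change algebraMap R L r = algebraMap (FractionRing R) L (e.symm (algebraMap R K r))
      rw [e.symm.commutes, ← IsScalarTower.algebraMap_apply]
    have hfin' : FiniteDimensional K L :=
      Module.Finite.of_equiv_equiv (A₁ := FractionRing R) (B₁ := L) (A₂ := K) (B₂ := L)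
        (e : FractionRing R ≃+* K) (RingEquiv.refl L) (by
          ext x
          change algebraMap (FractionRing R) L (e.symm (e x)) = algebraMap (FractionRing R) L x
          rw [e.symm_apply_apply])
    exact h L hfin'


/-- A localization of an N-1 domain which is again a domain is N-1. -/
theorem isN1_of_isLocalization (R : Type u) [CommRing R] [IsDomain R] (M : Submonoid R)
    (S : Type u) [CommRing S] [IsDomain S] [Algebra R S] [IsLocalization M S]
    (h : CAlg.IsN1 R) : CAlg.IsN1 S := by
  have hK : IsFractionRing R (FractionRing S) :=
    isFractionRing_of_isLocalization_of_isFractionRing M S (FractionRing S)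
  have h1 : Module.Finite R (integralClosure R (FractionRing S)) :=
    (isN1_iff R (FractionRing S)).mp h
  exact finite_integralClosure_of_isLocalization M S (FractionRing S) h1

/-- A localization of an N-2 domain which is again a domain is N-2. -/
theorem isN2_of_isLocalization (R : Type u) [CommRing R] [IsDomain R] (M : Submonoid R)
    (S : Type u) [CommRing S] [IsDomain S] [Algebra R S] [IsLocalization M S]
    (h : CAlg.IsN2 R) : CAlg.IsN2 S := by
  intro L _ _ _ _ hfin
  have hK : IsFractionRing R (FractionRing S) :=
    isFractionRing_of_isLocalization_of_isFractionRing M S (FractionRing S)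
  let _ : Algebra R L := ((algebraMap S L).comp (algebraMap R S)).toAlgebra
  have t1 : IsScalarTower R S L := IsScalarTower.of_algebraMap_eq (fun _ => rfl)
  have t2 : IsScalarTower R (FractionRing S) L := by
    refine IsScalarTower.of_algebraMap_eq (fun r => ?_)
    change algebraMap S L (algebraMap R S r) = _
    rw [IsScalarTower.algebraMap_apply S (FractionRing S) L,
      ← IsScalarTower.algebraMap_apply R S (FractionRing S)]
  have h1 : Module.Finite R (integralClosure R L) :=
    (isN2_iff R (FractionRing S)).mp h L hfin
  exact finite_integralClosure_of_isLocalization M S L h1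

end Groth.Agent.H5
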