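import Mathlib

/-!
# The algebraic end of the theorem on formal functions

`H` a finite module over a Noetherian ring `A`, `I` an ideal, `(G n)` an inverse system of abelian
groups receiving compatible maps `q n : H → G n` which kill `I^(n+1) H`, with kernels bounded by
Artin–Rees (`hAR`) and with the uniform Mittag-Leffler property (`hML`).  Then
`AdicCompletion I H ≃+ lim G n`, and if `A` is `I`-adically complete, `H ≃ lim G n`.
-/

namespace Groth.Agent.H5.FormalAlg

universe u

open AdicCompletion

section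
variable {A : Type u} [CommRing A] (I : Ideal A)
  (H : Type u) [AddCommGroup H] [Module A H]
  (G : ℕ → Type u) [∀ n, AddCommGroup (G n)]
  (tr : ∀ {n k : ℕ}, n ≤ k → G k →+ G n)

/-- the inverse limit of the system `(G n, tr)`: compatible families. -/
def limSub : AddSubgroup (∀ n, G n) where
  carrier := {x | ∀ n, tr (Nat.le_succ n) (x (n + 1)) = x n}
  zero_mem' := fun n => by simp
  add_mem' := fun {a b} ha hb n => by
    simp only [Pi.add_apply, map_add]
    rw [ha n, hb n]
  neg_mem' := fun {a} ha n => by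
    simp only [Pi.neg_apply, map_neg]
    rw [ha n]

lemma mem_limSub (x : ∀ n, G n) :
    x ∈ limSub G @tr ↔ ∀ n, tr (Nat.le_succ n) (x (n + 1)) = x n := Iff.rfl

variable (tr_trans : ∀ {n k l : ℕ} (h1 : n ≤ k) (h2 : k ≤ l) (y : G l),
    tr h1 (tr h2 y) = tr (h1.trans h2) y)
  (tr_refl : ∀ (n : ℕ) (y : G n), tr (le_refl n) y = y)

include tr_trans tr_refl in
lemma limSub_compat {x : ∀ n, G n} (hx : x ∈ limSub G @tr) {n k : ℕ} (h : n ≤ k) :
    tr h (x k) = x n := by
  induction k, h using Nat.le_induction with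
  | base => exact tr_refl n _
  | succ k hk ih =>
    rw [← tr_trans hk (Nat.le_succ k), hx k, ih]

variable (q : ∀ n, H →+ G n)
  (hq : ∀ {n k : ℕ} (h : n ≤ k) (x : H), tr h (q k x) = q n x)

/-- the canonical map `H → lim G n`. -/
def toLim : H →+ limSub G @tr where
  toFun x := ⟨fun n => q n x, fun n => hq (Nat.le_succ n) x⟩
  map_zero' := by
    apply Subtype.ext
    funext n
    simp
  map_add' x y := by
    apply Subtype.ext
    funext n
    simp

@[simp] lemma toLim_apply (x : H) (n : ℕ) : (toLim H G @tr q @hq x).1 n = q n x := rfl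

variable (hkill : ∀ n, ∀ x ∈ (I ^ (n + 1) • ⊤ : Submodule A H), q n x = 0)

/-- `q n` factors through `H / I^(n+1) H`. -/
noncomputable def qbar (n : ℕ) : H ⧸ (I ^ (n + 1) • ⊤ : Submodule A H) →+ G n :=
  QuotientAddGroup.lift (I ^ (n + 1) • ⊤ : Submodule A H).toAddSubgroup (q n)
    (fun x hx => hkill n x hx)

lemma qbar_mk (n : ℕ) (x : H) :
    qbar I H G q hkill n (Submodule.Quotient.mk x) = q n x := rfl

lemma qbar_mkQ (n : ℕ) (x : H) :
    qbar I H G q hkill n ((I ^ (n + 1) • ⊤ : Submodule A H).mkQ x) = q n x := rfl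

include hkill in
lemma q_eq_of_smodEq {n : ℕ} {x y : H}
    (h : x ≡ y [SMOD (I ^ (n + 1) • ⊤ : Submodule A H)]) : q n x = q n y := by
  have h1 : x - y ∈ (I ^ (n + 1) • ⊤ : Submodule A H) := SModEq.sub_mem.mp h
  have h2 := hkill n _ h1
  rwa [map_sub, sub_eq_zero] at h2

/-- the canonical map `AdicCompletion I H → lim G n`. -/
noncomputable def limHom : AdicCompletion I H →+ limSub G @tr where
  toFun x := ⟨fun n => qbar I H G q hkill n (x.val (n + 1)), by
    intro n
    induction x using AdicCompletion.induction_on with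
    | h a =>
      change tr (Nat.le_succ n) (q (n + 1) (a (n + 1 + 1))) = q n (a (n + 1))
      rw [hq]
      exact (q_eq_of_smodEq I H G q hkill (a.property (Nat.le_succ (n + 1)))).symm⟩
  map_zero' := by
    apply Subtype.ext
    funext n
    change qbar I H G q hkill n ((0 : AdicCompletion I H).val (n + 1)) = 0
    rw [AdicCompletion.val_zero, Pi.zero_apply, _root_.map_zero]
  map_add' x y := by
    apply Subtype.ext
    funext n
    change qbar I H G q hkill n ((x + y).val (n + 1)) =
      qbar I H G q hkill n (x.val (n + 1)) + qbar I H G q hkill n (y.val (n + 1))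
    rw [AdicCompletion.val_add, Pi.add_apply, _root_.map_add]

lemma limHom_mk (a : AdicCauchySequence I H) (n : ℕ) :
    (limHom I H G @tr q @hq hkill (AdicCompletion.mk I H a)).1 n = q n (a (n + 1)) := rfl

lemma limHom_of (x : H) :
    limHom I H G @tr q @hq hkill (AdicCompletion.of I H x) = toLim H G @tr q @hq x := rfl

variable (hAR : ∃ c, ∀ n, c ≤ n → ∀ x, q n x = 0 → x ∈ (I ^ (n - c) • ⊤ : Submodule A H))

include hAR in
lemma limHom_injective : Function.Injective (limHom I H G @tr q @hq hkill) := by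
  rw [injective_iff_map_eq_zero]
  intro x hx
  obtain ⟨c, hc⟩ := hAR
  induction x using AdicCompletion.induction_on with
  | h a =>
    ext k
    rw [AdicCompletion.mk_apply_coe, AdicCompletion.val_zero, Pi.zero_apply,
      Submodule.mkQ_apply, Submodule.Quotient.mk_eq_zero]
    have h1 : q (k + c) (a (k + c + 1)) = 0 := by
      have := congrArg (fun z : limSub G @tr => z.1 (k + c)) hx
      exact this
    have h2 := hc (k + c) (Nat.le_add_left _ _) _ h1
    rw [Nat.add_sub_cancel] at h2
    have h3 : a k ≡ a (k + c + 1) [SMOD (I ^ k • ⊤ : Submodule A H)] :=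
      a.property (by omega)
    have h4 := SModEq.sub_mem.mp h3
    have h5 := Submodule.add_mem _ h4 h2
    rwa [sub_add_cancel] at h5

variable (hML : ∃ c, ∀ n k (h : n ≤ k), n + c ≤ k → ∀ y : G k, ∃ x : H, q n x = tr h y)

include tr_trans tr_refl hAR hML in
lemma limHom_surjective : Function.Surjective (limHom I H G @tr q @hq hkill) := by
  intro y
  obtain ⟨c₁, hc₁⟩ := hML
  obtain ⟨c₂, hc₂⟩ := hAR
  have hy : ∀ {n k : ℕ} (h : n ≤ k), tr h (y.1 k) = y.1 n :=
    fun h => limSub_compat G @tr @tr_trans tr_refl y.2 h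
  have hex : ∀ n, ∃ h : H, q n h = y.1 n := by
    intro n
    obtain ⟨h, hh⟩ := hc₁ n (n + c₁) (Nat.le_add_right _ _) le_rfl (y.1 (n + c₁))
    exact ⟨h, hh.trans (hy _)⟩
  choose h hh using hex
  have hcau : ∀ k, h (k + c₂) ≡ h (k + 1 + c₂) [SMOD (I ^ k • ⊤ : Submodule A H)] := by
    intro k
    rw [SModEq.sub_mem]
    have h1 : q (k + c₂) (h (k + c₂) - h (k + 1 + c₂)) = 0 := by
      rw [map_sub, hh, ← hq (show k + c₂ ≤ k + 1 + c₂ by omega), hh, hy, sub_self]
    have h2 := hc₂ (k + c₂) (Nat.le_add_left _ _) _ h1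
    rwa [Nat.add_sub_cancel] at h2
  refine ⟨AdicCompletion.mk I H (AdicCauchySequence.mk I H (fun k => h (k + c₂)) hcau), ?_⟩
  apply Subtype.ext
  funext n
  rw [limHom_mk]
  change q n (h (n + 1 + c₂)) = y.1 n
  rw [← hq (show n ≤ n + 1 + c₂ by omega), hh, hy]

include tr_trans tr_refl hAR hML in
theorem limHom_bijective : Function.Bijective (limHom I H G @tr q @hq hkill) :=
  ⟨limHom_injective I H G @tr q @hq hkill hAR,
    limHom_surjective I H G @tr @tr_trans tr_refl q @hq hkill hAR hML⟩

include tr_trans tr_refl hq hkill hAR hML in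
/-- **`Ĥ ≃ lim G n`.** -/
theorem nonempty_adicCompletion_addEquiv_lim :
    Nonempty (AdicCompletion I H ≃+ limSub G @tr) :=
  ⟨AddEquiv.ofBijective (limHom I H G @tr q @hq hkill)
    (limHom_bijective I H G @tr @tr_trans tr_refl q @hq hkill hAR hML)⟩

end


section Complete
variable {A : Type u} [CommRing A] (I : Ideal A)

/-- a finite free module over an `I`-adically precomplete ring is precomplete. -/
lemma isPrecomplete_pi [IsPrecomplete I A] (n : ℕ) : IsPrecomplete I (Fin n → A) := by
  rw [← AdicCompletion.of_surjective_iff]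
  intro x
  have hsurj := AdicCompletion.of_surjective I A
  choose a ha using fun j => hsurj (AdicCompletion.pi I (fun _ : Fin n => A) x j)
  refine ⟨a, ?_⟩
  apply (AdicCompletion.piEquivFin I n).injective
  rw [AdicCompletion.piEquivFin_apply, AdicCompletion.piEquivFin_apply]
  funext j
  rw [← ha j]
  change AdicCompletion.map I (LinearMap.proj j) (AdicCompletion.of I (Fin n → A) a) = _
  rw [AdicCompletion.map_of]
  rfl

/-- a finite module over a Noetherian `I`-adically complete ring is `I`-adically complete. -/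
theorem isAdicComplete_of_finite [IsNoetherianRing A] [IsAdicComplete I A]
    (H : Type u) [AddCommGroup H] [Module A H] [Module.Finite A H] : IsAdicComplete I H := by
  haveI : IsHausdorff I H := IsHausdorff.of_le_jacobson I H (IsAdicComplete.le_jacobson_bot I)
  haveI : IsPrecomplete I H := by
    obtain ⟨n, f, hf⟩ := Module.Finite.exists_fin' A H
    haveI := isPrecomplete_pi I n
    rw [← AdicCompletion.of_surjective_iff]
    intro x
    obtain ⟨y, rfl⟩ := AdicCompletion.map_surjective I hf x
    obtain ⟨z, rfl⟩ := AdicCompletion.of_surjective I (Fin n → A) y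
    exact ⟨f z, (AdicCompletion.map_of I f z).symm⟩
  exact {}

end Complete

section
variable {A : Type u} [CommRing A] [IsNoetherianRing A] (I : Ideal A)
  (H : Type u) [AddCommGroup H] [Module A H] [Module.Finite A H]
  (G : ℕ → Type u) [∀ n, AddCommGroup (G n)]
  (tr : ∀ {n k : ℕ}, n ≤ k → G k →+ G n)
  (tr_trans : ∀ {n k l : ℕ} (h1 : n ≤ k) (h2 : k ≤ l) (y : G l),
    tr h1 (tr h2 y) = tr (h1.trans h2) y)
  (tr_refl : ∀ (n : ℕ) (y : G n), tr (le_refl n) y = y)
  (q : ∀ n, H →+ G n)
  (hq : ∀ {n k : ℕ} (h : n ≤ k) (x : H), tr h (q k x) = q n x)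
  (hkill : ∀ n, ∀ x ∈ (I ^ (n + 1) • ⊤ : Submodule A H), q n x = 0)
  (hAR : ∃ c, ∀ n, c ≤ n → ∀ x, q n x = 0 → x ∈ (I ^ (n - c) • ⊤ : Submodule A H))
  (hML : ∃ c, ∀ n k (h : n ≤ k), n + c ≤ k → ∀ y : G k, ∃ x : H, q n x = tr h y)

include tr_trans tr_refl hkill hAR hML in
/-- **`H ≃ lim G n` when `A` is `I`-adically complete.** -/
theorem bijective_toLim [IsAdicComplete I A] :
    Function.Bijective (toLim H G @tr q @hq) := by
  haveI := isAdicComplete_of_finite I H
  have h1 := limHom_bijective I H G @tr @tr_trans tr_refl q @hq hkill hAR hML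
  have h2 : Function.Bijective (AdicCompletion.of I H) :=
    AdicCompletion.of_bijective_iff.mpr inferInstance
  have h3 : ⇑(toLim H G @tr q @hq) = ⇑(limHom I H G @tr q @hq hkill) ∘ ⇑(AdicCompletion.of I H) := by
    funext x
    exact (limHom_of I H G @tr q @hq hkill x).symm
  rw [h3]
  exact h1.comp h2

include tr_trans tr_refl hkill hAR hML in
/-- the same statement in the subtype shape. -/
theorem bijective_toLim' [IsAdicComplete I A] :
    Function.Bijective (fun x : H =>
      (⟨fun n => q n x, fun n => hq (Nat.le_succ n) x⟩ :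
        {x : ∀ n, G n // ∀ n, tr (Nat.le_succ n) (x (n + 1)) = x n})) :=
  bijective_toLim I H G @tr @tr_trans tr_refl q @hq hkill hAR hML

end

end Groth.Agent.H5.FormalAlg
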