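import Mathlib

/-!
# Graded families: a graded submodule of a finitely generated graded module over `R[T₁..Tₛ]`
is generated in bounded degrees.
-/

namespace Groth.Agent.H5.GradedFam

universe u

open DirectSum MvPolynomial
open scoped IsMulCommutative

section
variable {R : Type u} [CommRing R] {s : ℕ}
  (H : ℕ → Type u) [∀ k, AddCommGroup (H k)] [∀ k, Module R (H k)]
  (T : Fin s → ∀ k, H k →ₗ[R] H (k + 1))

/-- The degree-raising operator on the direct sum induced by `T i`. -/
noncomputable def Tt (i : Fin s) : (⨁ k, H k) →ₗ[R] (⨁ k, H k) :=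
  DirectSum.toModule R ℕ _ (fun k => (DirectSum.lof R ℕ H (k+1)).comp (T i k))

@[simp] lemma Tt_lof (i : Fin s) (k : ℕ) (x : H k) :
    Tt H T i (lof R ℕ H k x) = lof R ℕ H (k+1) (T i k x) := by
  simp [Tt]

lemma lof_apply_ne (k j : ℕ) (x : H k) (h : j ≠ k) : (lof R ℕ H k x) j = 0 := by
  rw [DirectSum.lof_eq_of]; exact DirectSum.of_eq_of_ne _ _ _ h

lemma Tt_apply_succ (i : Fin s) (m : ⨁ k, H k) (j : ℕ) :
    (Tt H T i m) (j+1) = T i j (m j) := by
  induction m using DirectSum.induction_on with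
  | zero => simp
  | of k x =>
    rw [← DirectSum.lof_eq_of R, Tt_lof]
    by_cases h : k = j
    · subst h; simp
    · rw [lof_apply_ne H _ _ _ (by omega), lof_apply_ne H _ _ _ (Ne.symm h), map_zero]
  | add a b ha hb => simp [map_add, DirectSum.add_apply, ha, hb]

lemma Tt_apply_zero (i : Fin s) (m : ⨁ k, H k) :
    (Tt H T i m) 0 = 0 := by
  induction m using DirectSum.induction_on with
  | zero => simp
  | of k x =>
    rw [← DirectSum.lof_eq_of R, Tt_lof]
    exact lof_apply_ne H _ _ _ (by omega)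
  | add a b ha hb => simp [map_add, DirectSum.add_apply, ha, hb]

variable (hcomm : ∀ i j k (x : H k), T i (k + 1) (T j k x) = T j (k + 1) (T i k x))

include hcomm in
lemma Tt_comm (i j : Fin s) : Tt H T i * Tt H T j = Tt H T j * Tt H T i := by
  apply DirectSum.linearMap_ext
  intro k
  ext x
  simp [Module.End.mul_apply, hcomm i j k x]

include hcomm in
lemma range_comm : ∀ a ∈ Set.range (Tt H T), ∀ b ∈ Set.range (Tt H T), a * b = b * a := by
  rintro _ ⟨i, rfl⟩ _ ⟨j, rfl⟩; exact Tt_comm H T hcomm i j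

/-- The action of the polynomial ring on the direct sum. -/
noncomputable def phi : MvPolynomial (Fin s) R →ₐ[R] Module.End R (⨁ k, H k) :=
  haveI := Algebra.isMulCommutative_adjoin R (range_comm H T hcomm)
  (Subalgebra.val (Algebra.adjoin R (Set.range (Tt H T)))).comp
    (MvPolynomial.aeval (fun i =>
      (⟨Tt H T i, Algebra.subset_adjoin ⟨i, rfl⟩⟩ : Algebra.adjoin R (Set.range (Tt H T)))))

lemma phi_X (i : Fin s) : phi H T hcomm (X i) = Tt H T i := by
  simp [phi]

/-- The module structure over the polynomial ring. -/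
@[reducible] noncomputable def modP : Module (MvPolynomial (Fin s) R) (⨁ k, H k) :=
  Module.compHom _ (phi H T hcomm).toRingHom

lemma X_smul (i : Fin s) (m : ⨁ k, H k) :
    letI := modP H T hcomm
    (X i : MvPolynomial (Fin s) R) • m = Tt H T i m := by
  letI := modP H T hcomm
  change phi H T hcomm (X i) m = _
  rw [phi_X]

lemma C_smul (r : R) (m : ⨁ k, H k) :
    letI := modP H T hcomm
    (C r : MvPolynomial (Fin s) R) • m = r • m := by
  letI := modP H T hcomm
  change phi H T hcomm (C r) m = _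
  rw [← MvPolynomial.algebraMap_eq, AlgHom.commutes, Module.algebraMap_end_apply]

lemma isScalarTower :
    letI := modP H T hcomm
    IsScalarTower R (MvPolynomial (Fin s) R) (⨁ k, H k) := by
  letI := modP H T hcomm
  exact IsScalarTower.of_algebraMap_smul (fun r m => C_smul H T hcomm r m)

/-- An `R`-submodule stable under all `Tt i` is a submodule over the polynomial ring. -/
def toP (G : Submodule R (⨁ k, H k)) (hG : ∀ i m, m ∈ G → Tt H T i m ∈ G) :
    letI := modP H T hcomm
    Submodule (MvPolynomial (Fin s) R) (⨁ k, H k) :=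
  letI := modP H T hcomm
  { G.toAddSubmonoid with
    smul_mem' := by
      intro p
      induction p using MvPolynomial.induction_on with
      | C r =>
        intro m hm
        rw [C_smul]
        exact G.smul_mem r hm
      | add p q hp hq =>
        intro m hm
        rw [add_smul]
        exact G.add_mem (hp hm) (hq hm)
      | mul_X p i hp =>
        intro m hm
        rw [mul_smul, X_smul]
        exact hp (hG i m hm) }

lemma mem_toP (G : Submodule R (⨁ k, H k)) (hG : ∀ i m, m ∈ G → Tt H T i m ∈ G)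
    (m : ⨁ k, H k) : m ∈ toP H T hcomm G hG ↔ m ∈ G := Iff.rfl


include hcomm in
lemma finite_P [∀ k, Module.Finite R (H k)] (k₀ : ℕ)
    (hgen : ∀ k, k₀ ≤ k → ⨆ i, LinearMap.range (T i k) = ⊤) :
    letI := modP H T hcomm
    Module.Finite (MvPolynomial (Fin s) R) (⨁ k, H k) := by
  letI := modP H T hcomm
  haveI := isScalarTower H T hcomm
  classical
  choose S hS using fun k => (Module.Finite.fg_top (R := R) (M := H k))
  let 𝒮 : Set (⨁ k, H k) := ⋃ j ∈ Finset.range (k₀ + 1), (lof R ℕ H j) '' (S j : Set (H j))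
  have h𝒮 : 𝒮.Finite :=
    Set.Finite.biUnion (Finset.finite_toSet _) (fun j _ => (Finset.finite_toSet _).image _)
  set Q : Submodule (MvPolynomial (Fin s) R) (⨁ k, H k) := Submodule.span _ 𝒮 with hQ
  have key : ∀ k (x : H k), lof R ℕ H k x ∈ Q := by
    have direct : ∀ k, k ≤ k₀ → ∀ x : H k, lof R ℕ H k x ∈ Q := by
      intro k hk x
      have hx : x ∈ Submodule.span R (S k : Set (H k)) := by rw [hS]; trivial
      induction hx using Submodule.span_induction with
      | mem x hx =>
        apply Submodule.subset_span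
        simp only [𝒮, Set.mem_iUnion]
        exact ⟨k, Finset.mem_range.2 (by omega), x, hx, rfl⟩
      | zero => rw [map_zero]; exact Q.zero_mem
      | add a b _ _ ha hb => rw [map_add]; exact Q.add_mem ha hb
      | smul r a _ ha => rw [map_smul]; exact Q.smul_of_tower_mem r ha
    intro k
    induction k with
    | zero => exact direct 0 (Nat.zero_le _)
    | succ k ih =>
      by_cases hk : k + 1 ≤ k₀
      · exact direct _ hk
      · intro x
        have hx : x ∈ ⨆ i, LinearMap.range (T i k) := by rw [hgen k (by omega)]; trivial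
        induction hx using Submodule.iSup_induction' with
        | mem i x hx =>
          obtain ⟨x', rfl⟩ := hx
          rw [← Tt_lof, ← X_smul H T hcomm]
          exact Q.smul_mem _ (ih x')
        | zero => rw [map_zero]; exact Q.zero_mem
        | add a b _ _ ha hb => rw [map_add]; exact Q.add_mem ha hb
  refine ⟨Submodule.fg_def.2 ⟨𝒮, h𝒮, ?_⟩⟩
  rw [eq_top_iff]
  intro m _
  induction m using DirectSum.induction_on with
  | zero => exact Q.zero_mem
  | of k x => rw [← DirectSum.lof_eq_of R]; exact key k x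
  | add a b ha hb => exact Q.add_mem (ha trivial) (hb trivial)

variable (H' : ∀ k, Submodule R (H k)) (hstab : ∀ i k x, x ∈ H' k → T i k x ∈ H' (k + 1))

/-- The comparison submodule: components in degrees `≤ k` lie in `H'`, and the component in
degree `k + 1` lies in `∑ i, T i (H' k)`. -/
def G (k : ℕ) : Submodule R (⨁ k, H k) where
  carrier := {m | (∀ j, j ≤ k → m j ∈ H' j) ∧ m (k + 1) ∈ ⨆ i, (H' k).map (T i k)}
  zero_mem' := ⟨fun j _ => by simp, by simp⟩
  add_mem' := by
    rintro a b ⟨ha1, ha2⟩ ⟨hb1, hb2⟩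
    refine ⟨fun j hj => ?_, ?_⟩
    · rw [DirectSum.add_apply]; exact (H' j).add_mem (ha1 j hj) (hb1 j hj)
    · rw [DirectSum.add_apply]; exact Submodule.add_mem _ ha2 hb2
  smul_mem' := by
    rintro r a ⟨ha1, ha2⟩
    refine ⟨fun j hj => ?_, ?_⟩
    · rw [DirectSum.smul_apply]; exact (H' j).smul_mem r (ha1 j hj)
    · rw [DirectSum.smul_apply]; exact Submodule.smul_mem _ r ha2

include hstab in
lemma G_stable (k : ℕ) (i : Fin s) (m : ⨁ k, H k) (hm : m ∈ G H T H' k) :
    Tt H T i m ∈ G H T H' k := by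
  obtain ⟨h1, h2⟩ := hm
  refine ⟨fun j hj => ?_, ?_⟩
  · cases j with
    | zero => rw [Tt_apply_zero]; exact (H' 0).zero_mem
    | succ j =>
      rw [Tt_apply_succ]
      exact hstab i j _ (h1 j (by omega))
  · rw [Tt_apply_succ]
    exact Submodule.mem_iSup_of_mem i (Submodule.mem_map_of_mem (h1 k le_rfl))

end

/-- **Graded families**: a graded submodule of a finitely generated graded module over
`R[T₁, …, Tₛ]` is generated in bounded degrees. -/
theorem exists_eventually_generated_sub {R : Type u} [CommRing R] [IsNoetherianRing R] {s : ℕ}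
    (H : ℕ → Type u) [∀ k, AddCommGroup (H k)] [∀ k, Module R (H k)] [∀ k, Module.Finite R (H k)]
    (T : Fin s → ∀ k, H k →ₗ[R] H (k + 1))
    (hcomm : ∀ i j k (x : H k), T i (k + 1) (T j k x) = T j (k + 1) (T i k x))
    (k₀ : ℕ) (hgen : ∀ k, k₀ ≤ k → ⨆ i, LinearMap.range (T i k) = ⊤)
    (H' : ∀ k, Submodule R (H k)) (hstab : ∀ i k x, x ∈ H' k → T i k x ∈ H' (k + 1)) :
    ∃ k₁, ∀ k, k₁ ≤ k → ∀ y ∈ H' (k + 1), y ∈ ⨆ i, (H' k).map (T i k) := by
  letI := modP H T hcomm
  haveI := isScalarTower H T hcomm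
  haveI : Module.Finite (MvPolynomial (Fin s) R) (⨁ k, H k) := finite_P H T hcomm k₀ hgen
  haveI : IsNoetherian (MvPolynomial (Fin s) R) (⨁ k, H k) :=
    isNoetherian_of_isNoetherianRing_of_finite _ _
  let N : ℕ → Submodule (MvPolynomial (Fin s) R) (⨁ k, H k) := fun k =>
    Submodule.span _ (⋃ j ∈ Finset.range (k + 1), (lof R ℕ H j) '' (H' j : Set (H j)))
  have hN : Monotone N := by
    intro a b hab
    apply Submodule.span_mono
    apply Set.biUnion_subset_biUnion_left
    intro j hj
    simp only [Finset.coe_range, Set.mem_Iio] at hj ⊢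
    omega
  obtain ⟨k₁, hk₁⟩ := monotone_stabilizes_iff_noetherian.2 inferInstance ⟨N, hN⟩
  refine ⟨k₁, fun k hk y hy => ?_⟩
  have h1 : lof R ℕ H (k + 1) y ∈ N (k + 1) := by
    apply Submodule.subset_span
    simp only [Set.mem_iUnion]
    exact ⟨k + 1, Finset.mem_range.2 (by omega), y, hy, rfl⟩
  have h2 : N (k + 1) = N k := by
    have e1 := hk₁ (k + 1) (by omega)
    have e2 := hk₁ k hk
    simp only [OrderHom.coe_mk] at e1 e2
    rw [← e1, e2]
  have h3 : N k ≤ toP H T hcomm (G H T H' k) (G_stable H T H' hstab k) := by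
    apply Submodule.span_le.2
    intro m hm
    simp only [Set.mem_iUnion] at hm
    obtain ⟨j, hj, x, hx, rfl⟩ := hm
    have hj' : j ≤ k := by have := Finset.mem_range.1 hj; omega
    refine ⟨fun j' _ => ?_, ?_⟩
    · by_cases h : j' = j
      · subst h; rw [DirectSum.lof_apply]; exact hx
      · rw [lof_apply_ne H _ _ _ h]; exact (H' j').zero_mem
    · rw [lof_apply_ne H _ _ _ (by omega)]; exact Submodule.zero_mem _
  rw [h2] at h1
  have h4 := (h3 h1).2
  rwa [DirectSum.lof_apply] at h4


section Iter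
variable {R : Type u} [CommRing R] {s : ℕ}
  (H : ℕ → Type u) [∀ k, AddCommGroup (H k)] [∀ k, Module R (H k)]
  (T : Fin s → ∀ k, H k →ₗ[R] H (k + 1))

/-- Iterated compositions of the `T i`: `iter k n w = T (w (n-1)) ∘ ⋯ ∘ T (w 0) : H k → H (k+n)`. -/
noncomputable def iter (k : ℕ) : (n : ℕ) → (Fin n → Fin s) → (H k →ₗ[R] H (k + n))
  | 0, _ => LinearMap.id
  | n + 1, w => (T (w (Fin.last n)) (k + n)).comp (iter k n (fun j => w j.castSucc))

@[simp] lemma iter_zero (k : ℕ) (w : Fin 0 → Fin s) : iter H T k 0 w = LinearMap.id := rfl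

lemma iter_succ (k n : ℕ) (w : Fin (n + 1) → Fin s) :
    iter H T k (n + 1) w =
      (T (w (Fin.last n)) (k + n)).comp (iter H T k n (fun j => w j.castSucc)) := rfl

lemma iter_snoc (k n : ℕ) (w : Fin n → Fin s) (i : Fin s) :
    iter H T k (n + 1) (Fin.snoc w i) = (T i (k + n)).comp (iter H T k n w) := by
  rw [iter_succ]
  simp only [Fin.snoc_last, Fin.snoc_castSucc]

/-- The one-step generation property implies the iterated one. -/
theorem iter_of_step (H' : ∀ k, Submodule R (H k)) (k₁ : ℕ)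
    (hstep : ∀ k, k₁ ≤ k → ∀ y ∈ H' (k + 1), y ∈ ⨆ i, (H' k).map (T i k)) :
    ∀ n, ∀ y ∈ H' (k₁ + n), y ∈ ⨆ w : Fin n → Fin s, (H' k₁).map (iter H T k₁ n w) := by
  intro n
  induction n with
  | zero =>
    intro y hy
    exact Submodule.mem_iSup_of_mem (fun j => j.elim0) ⟨y, hy, rfl⟩
  | succ n ih =>
    intro y hy
    have hy' := hstep (k₁ + n) (by omega) y hy
    have hle : (⨆ i, (H' (k₁ + n)).map (T i (k₁ + n))) ≤
        ⨆ w : Fin (n + 1) → Fin s, (H' k₁).map (iter H T k₁ (n + 1) w) := by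
      refine iSup_le fun i => ?_
      rintro _ ⟨x, hx, rfl⟩
      have hx' := ih x hx
      have hle : (⨆ w : Fin n → Fin s, (H' k₁).map (iter H T k₁ n w)).map (T i (k₁ + n)) ≤
          ⨆ w : Fin (n + 1) → Fin s, (H' k₁).map (iter H T k₁ (n + 1) w) := by
        rw [Submodule.map_iSup]
        refine iSup_le fun w => ?_
        rw [← Submodule.map_comp, ← iter_snoc]
        exact le_iSup (fun w' : Fin (n + 1) → Fin s => (H' k₁).map (iter H T k₁ (n + 1) w'))
          (Fin.snoc w i)
      exact hle (Submodule.mem_map_of_mem hx')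
    exact hle hy'

end Iter

/-- **Graded families**, iterated form: beyond `k₁`, every element of `H' (k₁ + n)` is a sum of
images of elements of `H' k₁` under length-`n` compositions of the `T i`. -/
theorem exists_eventually_generated_iter {R : Type u} [CommRing R] [IsNoetherianRing R] {s : ℕ}
    (H : ℕ → Type u) [∀ k, AddCommGroup (H k)] [∀ k, Module R (H k)] [∀ k, Module.Finite R (H k)]
    (T : Fin s → ∀ k, H k →ₗ[R] H (k + 1))
    (hcomm : ∀ i j k (x : H k), T i (k + 1) (T j k x) = T j (k + 1) (T i k x))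
    (k₀ : ℕ) (hgen : ∀ k, k₀ ≤ k → ⨆ i, LinearMap.range (T i k) = ⊤)
    (H' : ∀ k, Submodule R (H k)) (hstab : ∀ i k x, x ∈ H' k → T i k x ∈ H' (k + 1)) :
    ∃ k₁, (∀ k, k₁ ≤ k → ∀ y ∈ H' (k + 1), y ∈ ⨆ i, (H' k).map (T i k)) ∧
      ∀ n, ∀ y ∈ H' (k₁ + n), y ∈ ⨆ w : Fin n → Fin s, (H' k₁).map (iter H T k₁ n w) := by
  obtain ⟨k₁, hk₁⟩ := exists_eventually_generated_sub H T hcomm k₀ hgen H' hstab
  exact ⟨k₁, hk₁, iter_of_step H T H' k₁ hk₁⟩

end Groth.Agent.H5.GradedFam
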