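import Mathlib
import Groth.Agent.Lib.Helper5.ChowStalk.E
import Groth.Prelude.Def_FlatMod2

/-! # Stalk at the generic point and support of `i_* π_* L`

`i : Z ⟶ X` a closed immersion with `Z` integral, `π : Z' ⟶ Z` an isomorphism over a nonempty open
`X₀ ⊆ Z`, `L` invertible on `Z'`, `G := i_* π_* L` quasi-coherent of finite type.  Then the stalk of
`G` at `i(η)` is a simple `O_{X,i(η)}`-module (hence isomorphic to the residue field) and the support
of `G` is `i(Z)`. -/

set_option autoImplicit false
universe u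
open CategoryTheory Limits Opposite AlgebraicGeometry TopologicalSpace

namespace Groth.Agent.H5

theorem isSimpleModule_stalk_push_push {X Z Z' : Scheme.{u}} (i : Z ⟶ X) [IsClosedImmersion i]
    [IsIntegral Z] (π : Z' ⟶ Z) (X₀ : Z.Opens) (hX₀ : (X₀ : Set Z).Nonempty)
    (hπ : IsIso (π ∣_ X₀)) (L : Z'.Modules) (hL : PicF.IsInvertible L)
    (hG : Coh.IsCoh ((Scheme.Modules.pushforward i).obj ((Scheme.Modules.pushforward π).obj L))) :
    IsSimpleModule (X.presheaf.stalk (i (genericPoint Z)))
      ↑(((Scheme.Modules.pushforward i).obj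
        ((Scheme.Modules.pushforward π).obj L)).presheaf.stalk (i (genericPoint Z))) :=
  ChowStalk.isSimpleModule_stalk_push_push i π X₀ hX₀ hπ L hL hG

theorem support_push_push {X Z Z' : Scheme.{u}} (i : Z ⟶ X) [IsClosedImmersion i]
    [IsIntegral Z] (π : Z' ⟶ Z) (X₀ : Z.Opens) (hX₀ : (X₀ : Set Z).Nonempty)
    (hπ : IsIso (π ∣_ X₀)) (L : Z'.Modules) (hL : PicF.IsInvertible L)
    (hG : Coh.IsCoh ((Scheme.Modules.pushforward i).obj ((Scheme.Modules.pushforward π).obj L))) :
    CohB1.support ((Scheme.Modules.pushforward i).obj ((Scheme.Modules.pushforward π).obj L)) =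
      Set.range ⇑i :=
  ChowStalk.support_push_push i π X₀ hX₀ hπ L hL hG

/-- a simple module over a local ring is isomorphic to the residue field. -/
theorem nonempty_linearEquiv_residueField_of_isSimpleModule (R M : Type*) [CommRing R]
    [IsLocalRing R] [AddCommGroup M] [Module R M] [IsSimpleModule R M] :
    Nonempty (M ≃ₗ[R] IsLocalRing.ResidueField R) := by
  obtain ⟨I, hI, ⟨e⟩⟩ := (isSimpleModule_iff_quot_maximal (R := R) (M := M)).mp inferInstance
  obtain rfl : I = IsLocalRing.maximalIdeal R := IsLocalRing.eq_maximalIdeal hI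
  exact ⟨e⟩

/-- the form used in the dévissage statement (S0818, hypothesis `h₂`). -/
theorem exists_coh_support_stalk {X Z Z' : Scheme.{u}} (i : Z ⟶ X) [IsClosedImmersion i]
    [IsIntegral Z] (π : Z' ⟶ Z) (X₀ : Z.Opens) (hX₀ : (X₀ : Set Z).Nonempty)
    (hπ : IsIso (π ∣_ X₀)) (L : Z'.Modules) (hL : PicF.IsInvertible L)
    (hG : Coh.IsCoh ((Scheme.Modules.pushforward i).obj ((Scheme.Modules.pushforward π).obj L))) :
    CohB1.support ((Scheme.Modules.pushforward i).obj ((Scheme.Modules.pushforward π).obj L)) =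
        Set.range ⇑i ∧
      Nonempty (↑(((Scheme.Modules.pushforward i).obj
        ((Scheme.Modules.pushforward π).obj L)).presheaf.stalk (i (genericPoint Z)))
          ≃ₗ[X.presheaf.stalk (i (genericPoint Z))]
          IsLocalRing.ResidueField (X.presheaf.stalk (i (genericPoint Z)))) := by
  refine ⟨support_push_push i π X₀ hX₀ hπ L hL hG, ?_⟩
  haveI := isSimpleModule_stalk_push_push i π X₀ hX₀ hπ L hL hG
  exact nonempty_linearEquiv_residueField_of_isSimpleModule _ _

end Groth.Agent.H5
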