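import Mathlib.RingTheory.Ideal.AssociatedPrime.Finiteness
import Mathlib.RingTheory.Ideal.AssociatedPrime.Basic
import Mathlib.RingTheory.Ideal.Operations
import Mathlib.Algebra.Ring.NonZeroDivisors

/-!
# Ideals with zero annihilator in a Noetherian ring contain a regular element
-/

set_option autoImplicit false
universe u

namespace Groth.Agent.H5

variable {R : Type u} [CommRing R]

lemma annihilator_eq_bot_of_mem_isRegular (I : Ideal R) (a : R) (ha : a ∈ I) (hreg : IsRegular a) :
    I.annihilator = ⊥ := by
  rw [eq_bot_iff]
  intro r hr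
  rw [Submodule.mem_annihilator] at hr
  have h1 : r * a = 0 := hr a ha
  have h2 : r * a = 0 * a := by rw [h1, zero_mul]
  exact hreg.right h2

lemma exists_isRegular_mem_of_annihilator_eq_bot [IsNoetherianRing R] (I : Ideal R)
    (h : I.annihilator = ⊥) : ∃ a ∈ I, IsRegular a := by
  classical
  by_contra hcon
  push Not at hcon
  have hsub : (I : Set R) ⊆ ⋃ p ∈ associatedPrimes R R, (p : Set R) := by
    rw [biUnion_associatedPrimes_eq_compl_nonZeroDivisors]
    intro a ha
    rw [Set.mem_compl_iff, SetLike.mem_coe, ← isRegular_iff_mem_nonZeroDivisors]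
    exact hcon a ha
  have hfin : (associatedPrimes R R).Finite := associatedPrimes.finite R R
  have hsub' : (I : Set R) ⊆ ⋃ p ∈ (hfin.toFinset : Set (Ideal R)), ((fun p => p) p : Set R) := by
    simpa using hsub
  obtain ⟨p, hp, hIp⟩ := (Ideal.subset_union_prime (f := fun p : Ideal R => p) ⊥ ⊥
    (fun p hp _ _ => by
      have : p ∈ associatedPrimes R R := by simpa using hp
      exact this.isPrime)).mp hsub'
  have hpass : IsAssociatedPrime p R := by
    have : p ∈ associatedPrimes R R := by simpa using hp
    exact this
  obtain ⟨hprime, x, hx⟩ := (isAssociatedPrime_iff).mp hpass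
  have hxann : x ∈ I.annihilator := by
    rw [Submodule.mem_annihilator]
    intro i hi
    have : i ∈ p := hIp hi
    rw [hx, Submodule.mem_colon_singleton] at this
    simpa [mul_comm] using this
  rw [h, Ideal.mem_bot] at hxann
  apply hprime.ne_top
  rw [hx, hxann]
  rw [Ideal.eq_top_iff_one, Submodule.mem_colon_singleton]
  simp

end Groth.Agent.H5
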