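import Groth.Agent.Lib.Helper5.LocIC
import Mathlib.RingTheory.Adjoin.FG
import Mathlib.RingTheory.IntegralClosure.IsIntegralClosure.Basic
import Mathlib.RingTheory.Algebraic.Integral

/-! Finite integral subalgebras with a prescribed fraction field, and
"N-1 for all finite type domains implies universally Japanese". -/

namespace Groth.Agent.H5

universe u

/-- If a subalgebra `S'` of a field `L` over a domain `S` contains nonzero `S`-multiples of a
spanning set of `L` over `K = Frac S`, then `L` is the fraction field of `S'`. -/
theorem isFractionRing_subalgebra_of_span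
    {S : Type*} [CommRing S] [IsDomain S] (K : Type*) [Field K] [Algebra S K] [IsFractionRing S K]
    {L : Type*} [Field L] [Algebra S L] [Algebra K L] [IsScalarTower S K L]
    (S' : Subalgebra S L) (s : Set L) (hs : Submodule.span K s = ⊤)
    (h : ∀ b ∈ s, ∃ y : S, y ≠ 0 ∧ y • b ∈ S') : IsFractionRing S' L := by
  have hinj : Function.Injective (algebraMap S L) := by
    rw [IsScalarTower.algebraMap_eq S K L]
    exact (algebraMap K L).injective.comp (IsFractionRing.injective S K)
  have key : ∀ z : L, ∃ t : S, t ≠ 0 ∧ t • z ∈ S' := by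
    intro z
    have hz : z ∈ Submodule.span K s := by rw [hs]; trivial
    induction hz using Submodule.span_induction with
    | mem b hb => exact h b hb
    | zero => exact ⟨1, one_ne_zero, by simp⟩
    | add a b _ _ ha hb =>
      obtain ⟨t1, ht1, h1⟩ := ha
      obtain ⟨t2, ht2, h2⟩ := hb
      refine ⟨t1 * t2, mul_ne_zero ht1 ht2, ?_⟩
      have : (t1 * t2) • (a + b) = t2 • (t1 • a) + t1 • (t2 • b) := by
        rw [smul_add, mul_smul, mul_comm, mul_smul, smul_comm t2 t1 a, smul_comm t2 t1 b]
      rw [this]
      exact S'.add_mem (S'.smul_mem h1 _) (S'.smul_mem h2 _)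
    | smul k a _ ha =>
      obtain ⟨t, ht, h1⟩ := ha
      obtain ⟨⟨r, d⟩, hrd⟩ := IsLocalization.surj (nonZeroDivisors S) k
      refine ⟨(d : S) * t, mul_ne_zero (nonZeroDivisors.ne_zero d.2) ht, ?_⟩
      have : ((d : S) * t) • (k • a) = r • (t • a) := by
        have h2 : k * algebraMap S K (d : S) = algebraMap S K r := hrd
        rw [mul_smul, smul_comm t k a, ← algebraMap_smul K (d : S) (k • (t • a)), smul_smul,
          mul_comm, h2, algebraMap_smul]
      rw [this]
      exact S'.smul_mem h1 _
  refine IsFractionRing.of_field (R := S') (K := L) (fun z => ?_)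
  obtain ⟨t, ht, hz⟩ := key z
  refine ⟨⟨t • z, hz⟩, algebraMap S S' t, ?_⟩
  have ht' : algebraMap S L t ≠ 0 := (map_ne_zero_iff _ hinj).mpr ht
  change z = (t • z) / algebraMap S L t
  rw [Algebra.smul_def, mul_div_cancel_left₀ _ ht']


/-- If `S` is a domain such that every domain finite over `S` (inside a given finite extension
`L` of `Frac S`) is N-1, then the integral closure of `S` in `L` is finite. -/
theorem finite_integralClosure_of_forall_finite_isN1
    (S : Type u) [CommRing S] [IsDomain S]
    (L : Type u) [Field L] [Algebra S L] [Algebra (FractionRing S) L]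
    [IsScalarTower S (FractionRing S) L] [FiniteDimensional (FractionRing S) L]
    (h : ∀ S' : Subalgebra S L, Module.Finite S S' → CAlg.IsN1 S') :
    Module.Finite S (integralClosure S L) := by
  classical
  have halg : Algebra.IsAlgebraic S L := IsFractionRing.comap_isAlgebraic_iff.mpr
    (inferInstance : Algebra.IsAlgebraic (FractionRing S) L)
  obtain ⟨s, hs⟩ := (Module.Finite.fg_top : (⊤ : Submodule (FractionRing S) L).FG)
  obtain ⟨y, hy0, hy⟩ := Algebra.IsAlgebraic.exists_integral_multiples S s
  let T : Set L := (fun z => y • z) '' (s : Set L)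
  have hTfin : T.Finite := (Finset.finite_toSet s).image _
  have hTint : ∀ x ∈ T, IsIntegral S x := by
    rintro _ ⟨z, hz, rfl⟩
    exact hy z hz
  let S' : Subalgebra S L := Algebra.adjoin S T
  have hfin : Module.Finite S S' := Module.Finite.iff_fg.mpr (fg_adjoin_of_finite hTfin hTint)
  have hN1 : CAlg.IsN1 S' := h S' hfin
  have hfrac : IsFractionRing S' L :=
    isFractionRing_subalgebra_of_span (FractionRing S) S' (s : Set L) hs (fun b hb =>
      ⟨y, hy0, Algebra.subset_adjoin ⟨b, hb, rfl⟩⟩)
  have h1 : Module.Finite S' (integralClosure S' L) := (isN1_iff S' L).mp hN1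
  have h2 : Module.Finite S (integralClosure S' L) := Module.Finite.trans S' _
  have hint : Algebra.IsIntegral S S' := Algebra.IsIntegral.of_finite S S'
  let e : integralClosure S' L →ₗ[S] integralClosure S L :=
    { toFun := fun x => ⟨x.1, isIntegral_trans (R := S) (A := S') x.1 x.2⟩
      map_add' := fun _ _ => rfl
      map_smul' := fun _ _ => rfl }
  refine Module.Finite.of_surjective e ?_
  rintro ⟨x, hx⟩
  exact ⟨⟨x, IsIntegral.tower_top hx⟩, rfl⟩

/-- A ring is universally Japanese as soon as all its finite type domains are N-1. -/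
theorem isUniversallyJapanese_of_forall_isN1 (R : Type u) [CommRing R]
    (h : ∀ (S : Type u) [CommRing S] [IsDomain S] [Algebra R S],
      Algebra.FiniteType R S → CAlg.IsN1 S) :
    CAlg.IsUniversallyJapanese R := by
  intro S _ _ _ hS L _ _ _ _ hL
  have : FiniteDimensional (FractionRing S) L := hL
  let _ : Algebra R L := ((algebraMap S L).comp (algebraMap R S)).toAlgebra
  have : IsScalarTower R S L := IsScalarTower.of_algebraMap_eq (fun _ => rfl)
  refine finite_integralClosure_of_forall_finite_isN1 S L (fun S' hfin => ?_)
  have : Module.Finite S S' := hfin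
  have hft : Algebra.FiniteType R S' :=
    Algebra.FiniteType.trans hS (inferInstance : Algebra.FiniteType S S')
  exact h S' hft

end Groth.Agent.H5
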