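import Mathlib.RingTheory.Nilpotent.GeometricallyReduced
import Mathlib.FieldTheory.SeparablyGenerated
import Mathlib.RingTheory.Smooth.Field
import Mathlib.RingTheory.Flat.Basic

/-! Geometrically reduced finitely generated field extensions are separably generated,
hence formally smooth. -/

set_option autoImplicit false

namespace Groth.Agent.H5

open TensorProduct

/-- MacLane's criterion, easy direction: for a geometrically reduced extension, `p`-th powers of
linearly independent elements stay linearly independent. -/
theorem linearIndepOn_pow_of_isGeometricallyReduced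
    {k K : Type*} [Field k] [Field K] [Algebra k K] (p : ℕ) (hp : p.Prime) [ExpChar k p]
    [Algebra.IsGeometricallyReduced k K] (s : Finset K)
    (hs : LinearIndepOn k _root_.id (s : Set K)) : LinearIndepOn k (· ^ p) (s : Set K) := by
  classical
  have hchar : CharP k p := by
    cases ‹ExpChar k p› with
    | zero => exact absurd hp Nat.not_prime_one
    | prime _ => assumption
  let kb := AlgebraicClosure k
  let T := kb ⊗[k] K
  have hred : IsReduced T := inferInstance
  have hcharkb : CharP kb p := charP_of_injective_algebraMap (algebraMap k kb).injective p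
  have hinjT : Function.Injective (algebraMap kb T) :=
    Algebra.TensorProduct.includeLeft_injective (S := kb) (algebraMap k K).injective
  have hcharT : CharP T p := charP_of_injective_algebraMap hinjT p
  have hfact : Fact p.Prime := ⟨hp⟩
  rw [LinearIndepOn, linearIndependent_iff']
  intro t g hg i hi
  -- p-th roots
  have hroot : ∀ c : k, ∃ d : kb, d ^ p = algebraMap k kb c := fun c =>
    IsAlgClosed.exists_pow_nat_eq _ hp.pos
  choose d hd using hroot
  let z : T := ∑ j ∈ t, d (g j) ⊗ₜ[k] (j : K)
  have hz : z ^ p = 0 := by
    rw [sum_pow_char]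
    have : ∀ j ∈ t, (d (g j) ⊗ₜ[k] (j : K)) ^ p = (1 : kb) ⊗ₜ[k] (g j • (j : K) ^ p) := by
      intro j _
      rw [Algebra.TensorProduct.tmul_pow, hd, Algebra.algebraMap_eq_smul_one,
        TensorProduct.smul_tmul]
    rw [Finset.sum_congr rfl this, ← TensorProduct.tmul_sum, hg, TensorProduct.tmul_zero]
  have hz0 : z = 0 := IsReduced.eq_zero _ ⟨p, hz⟩
  have hli : LinearIndependent kb (fun j : (s : Set K) => (1 : kb) ⊗ₜ[k] (j : K)) :=
    Module.Flat.linearIndependent_one_tmul hs
  have hz' : ∑ j ∈ t, d (g j) • ((1 : kb) ⊗ₜ[k] (j : K)) = 0 := by
    rw [← hz0]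
    refine Finset.sum_congr rfl (fun j _ => ?_)
    rw [TensorProduct.smul_tmul', smul_eq_mul, mul_one]
  have hdi := linearIndependent_iff'.mp hli t (fun j => d (g j)) hz' i hi
  have : algebraMap k kb (g i) = 0 := by rw [← hd, hdi, zero_pow hp.ne_zero]
  exact (map_eq_zero_iff _ (algebraMap k kb).injective).mp this


/-- A finitely generated geometrically reduced ("separable") field extension is formally smooth. -/
theorem formallySmooth_of_isGeometricallyReduced
    (k K : Type*) [Field k] [Field K] [Algebra k K] [Algebra.EssFiniteType k K]
    [Algebra.IsGeometricallyReduced k K] : Algebra.FormallySmooth k K := by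
  obtain _ | ⟨p, hp, hpk⟩ := CharP.exists' k
  · infer_instance
  · have : ExpChar k p := .prime hp.out
    obtain ⟨s, hs, H⟩ :=
      exists_isTranscendenceBasis_and_isSeparable_of_linearIndepOn_pow_of_essFiniteType
        (k := k) (K := K) p hp.out
        (fun s hs => linearIndepOn_pow_of_isGeometricallyReduced p hp.out s hs)
    have : Algebra.IsSeparable (↥(IntermediateField.adjoin k (Set.range ((↑) : s → K)))) K := by
      convert! H <;> simp
    exact .of_algebraicIndependent_of_isSeparable hs.1

end Groth.Agent.H5
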