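import Groth.Agent.Lib.Helper5.LocIC
import Mathlib.RingTheory.LocalProperties.Submodule

/-! Finiteness of integral closure is local on a finite principal cover. -/

namespace Groth.Agent.H5

universe u

theorem exists_finite_integral_set_of_away
    {R : Type*} [CommRing R] (r : R) (R' : Type*) [CommRing R'] [Algebra R R']
    [IsLocalization.Away r R']
    (L : Type*) [CommRing L] [Algebra R L] [Algebra R' L] [IsScalarTower R R' L]
    (h : Module.Finite R' (integralClosure R' L)) :
    ∃ T : Set L, T.Finite ∧ (∀ x ∈ T, IsIntegral R x) ∧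
      ∀ a : L, IsIntegral R' a → ∃ n : ℕ, r ^ n • a ∈ Submodule.span R T := by
  classical
  have hA : (Subalgebra.toSubmodule (integralClosure R' L)).FG := Module.Finite.iff_fg.mp h
  obtain ⟨G, hG⟩ := hA
  have hGint : ∀ g ∈ G, IsIntegral R' g := fun g hg => by
    have : g ∈ Subalgebra.toSubmodule (integralClosure R' L) := hG ▸ Submodule.subset_span hg
    exact this
  have hm : ∀ g : L, ∃ m : Submonoid.powers r, g ∈ G → IsIntegral R (m • g) := by
    intro g
    by_cases hg : g ∈ G
    · obtain ⟨m, hm⟩ := IsIntegral.exists_multiple_integral_of_isLocalization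
        (Submonoid.powers r) g (hGint g hg)
      exact ⟨m, fun _ => hm⟩
    · exact ⟨1, fun h => absurd h hg⟩
  choose m hm using hm
  refine ⟨(fun g => m g • g) '' (G : Set L), (Finset.finite_toSet G).image _, ?_, ?_⟩
  · rintro _ ⟨g, hg, rfl⟩
    exact hm g hg
  · intro a ha
    have ha' : a ∈ Submodule.span R' (G : Set L) := by rw [hG]; exact ha
    have hle : Submodule.span R' (G : Set L) ≤
        Submodule.span R' ((fun g => m g • g) '' (G : Set L)) := by
      rw [Submodule.span_le]
      intro g hg
      have h3 : g = (IsLocalization.mk' R' (1 : R) (m g)) • (m g • g) := by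
        rw [Submonoid.smul_def, ← algebraMap_smul R' ((m g : R)) g, smul_smul,
          IsLocalization.mk'_spec, map_one, one_smul]
      rw [h3]
      exact Submodule.smul_mem _ _ (Submodule.subset_span ⟨g, hg, rfl⟩)
    obtain ⟨⟨_, n, rfl⟩, ht⟩ := multiple_mem_span_of_mem_localization_span (Submonoid.powers r) R'
      ((fun g => m g • g) '' (G : Set L)) a (hle ha')
    exact ⟨n, ht⟩

/-- Finiteness of the integral closure in a fixed ring `L` is local on a finite principal cover. -/
theorem finite_integralClosure_of_span_eq_top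
    {R : Type*} [CommRing R] {ι : Type*} [Finite ι] (f : ι → R)
    (hf : Ideal.span (Set.range f) = ⊤)
    (Rf : ι → Type*) [∀ i, CommRing (Rf i)] [∀ i, Algebra R (Rf i)]
    [∀ i, IsLocalization.Away (f i) (Rf i)]
    (L : Type*) [CommRing L] [Algebra R L] [∀ i, Algebra (Rf i) L]
    [∀ i, IsScalarTower R (Rf i) L]
    (h : ∀ i, Module.Finite (Rf i) (integralClosure (Rf i) L)) :
    Module.Finite R (integralClosure R L) := by
  choose T hTfin hTint hT using fun i =>
    exists_finite_integral_set_of_away (f i) (Rf i) L (h i)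
  have hfin : (⋃ i, T i).Finite := Set.finite_iUnion hTfin
  suffices hfg : (Subalgebra.toSubmodule (integralClosure R L)).FG from
    Module.Finite.iff_fg.mpr hfg
  refine Submodule.fg_def.mpr ⟨⋃ i, T i, hfin, le_antisymm ?_ ?_⟩
  · rw [Submodule.span_le]
    intro x hx
    obtain ⟨i, hi⟩ := Set.mem_iUnion.mp hx
    exact hTint i x hi
  · intro a ha
    refine Submodule.mem_of_span_eq_top_of_smul_pow_mem _ (Set.range f) hf a ?_
    rintro ⟨_, i, rfl⟩
    obtain ⟨n, hn⟩ := hT i a (IsIntegral.tower_top ha)
    exact ⟨n, Submodule.span_mono (Set.subset_iUnion T i) hn⟩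


/-- The algebra structure on a fraction field `K` of a domain `R` over a nontrivial
localization `S` of `R`. -/
@[reducible] noncomputable def algebraOfIsLocalization
    {R : Type*} [CommRing R] [IsDomain R] (M : Submonoid R)
    (S : Type*) [CommRing S] [Nontrivial S] [Algebra R S] [IsLocalization M S]
    (K : Type*) [CommRing K] [Algebra R K] [IsFractionRing R K] : Algebra S K :=
  (IsLocalization.lift (M := M) (g := algebraMap R K) (fun y =>
    IsLocalization.map_units K
      (⟨y, le_nonZeroDivisors_of_isLocalization M S y.2⟩ : nonZeroDivisors R))).toAlgebra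

theorem isScalarTower_algebraOfIsLocalization
    {R : Type*} [CommRing R] [IsDomain R] (M : Submonoid R)
    (S : Type*) [CommRing S] [Nontrivial S] [Algebra R S] [IsLocalization M S]
    (K : Type*) [CommRing K] [Algebra R K] [IsFractionRing R K] :
    @IsScalarTower R S K _ (algebraOfIsLocalization M S K).toSMul _ := by
  let _ := algebraOfIsLocalization M S K
  refine IsScalarTower.of_algebraMap_eq (fun r => ?_)
  exact (IsLocalization.lift_eq _ r).symm

/-- N-1 is local on a finite principal cover by domains. -/
theorem isN1_of_span_eq_top (R : Type u) [CommRing R] [IsDomain R]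
    {ι : Type*} [Finite ι] (f : ι → R) (hf : Ideal.span (Set.range f) = ⊤)
    (Rf : ι → Type u) [∀ i, CommRing (Rf i)] [∀ i, IsDomain (Rf i)] [∀ i, Algebra R (Rf i)]
    [∀ i, IsLocalization.Away (f i) (Rf i)] (h : ∀ i, CAlg.IsN1 (Rf i)) : CAlg.IsN1 R := by
  let alg : ∀ i, Algebra (Rf i) (FractionRing R) := fun i =>
    algebraOfIsLocalization (Submonoid.powers (f i)) (Rf i) (FractionRing R)
  have tower : ∀ i, IsScalarTower R (Rf i) (FractionRing R) := fun i =>
    isScalarTower_algebraOfIsLocalization (Submonoid.powers (f i)) (Rf i) (FractionRing R)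
  have frac : ∀ i, IsFractionRing (Rf i) (FractionRing R) := fun i =>
    IsFractionRing.isFractionRing_of_isDomain_of_isLocalization (Submonoid.powers (f i))
      (Rf i) (FractionRing R)
  have hfin : ∀ i, Module.Finite (Rf i) (integralClosure (Rf i) (FractionRing R)) := fun i =>
    (isN1_iff (Rf i) (FractionRing R)).mp (h i)
  exact finite_integralClosure_of_span_eq_top f hf Rf (FractionRing R) hfin

/-- N-2 is local on a finite principal cover by domains. -/
theorem isN2_of_span_eq_top (R : Type u) [CommRing R] [IsDomain R]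
    {ι : Type*} [Finite ι] (f : ι → R) (hf : Ideal.span (Set.range f) = ⊤)
    (Rf : ι → Type u) [∀ i, CommRing (Rf i)] [∀ i, IsDomain (Rf i)] [∀ i, Algebra R (Rf i)]
    [∀ i, IsLocalization.Away (f i) (Rf i)] (h : ∀ i, CAlg.IsN2 (Rf i)) : CAlg.IsN2 R := by
  intro L _ _ _ _ hL
  let alg : ∀ i, Algebra (Rf i) (FractionRing R) := fun i =>
    algebraOfIsLocalization (Submonoid.powers (f i)) (Rf i) (FractionRing R)
  have tower : ∀ i, IsScalarTower R (Rf i) (FractionRing R) := fun i =>
    isScalarTower_algebraOfIsLocalization (Submonoid.powers (f i)) (Rf i) (FractionRing R)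
  have frac : ∀ i, IsFractionRing (Rf i) (FractionRing R) := fun i =>
    IsFractionRing.isFractionRing_of_isDomain_of_isLocalization (Submonoid.powers (f i))
      (Rf i) (FractionRing R)
  let algL : ∀ i, Algebra (Rf i) L := fun i =>
    ((algebraMap (FractionRing R) L).comp (algebraMap (Rf i) (FractionRing R))).toAlgebra
  have towerL : ∀ i, IsScalarTower (Rf i) (FractionRing R) L := fun i =>
    IsScalarTower.of_algebraMap_eq (fun _ => rfl)
  have towerL' : ∀ i, IsScalarTower R (Rf i) L := fun i => by
    refine IsScalarTower.of_algebraMap_eq (fun r => ?_)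
    change _ = algebraMap (FractionRing R) L (algebraMap (Rf i) (FractionRing R) (algebraMap R (Rf i) r))
    rw [← IsScalarTower.algebraMap_apply R (Rf i) (FractionRing R),
      ← IsScalarTower.algebraMap_apply R (FractionRing R) L]
  have hfin : ∀ i, Module.Finite (Rf i) (integralClosure (Rf i) L) := fun i =>
    (isN2_iff (Rf i) (FractionRing R)).mp (h i) L hL
  exact finite_integralClosure_of_span_eq_top f hf Rf L hfin

end Groth.Agent.H5
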