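import Groth.Prelude.Def_CAlgX
import Mathlib.LinearAlgebra.Matrix.ToLin
import Mathlib.LinearAlgebra.Matrix.Adjugate
import Mathlib.LinearAlgebra.Matrix.Determinant.Basic
import Mathlib.RingTheory.Ideal.Maps
import Mathlib.RingTheory.Ideal.Operations
import Mathlib.Tactic.Ring
import Mathlib.Tactic.Abel

/-!
# McCoy's theorem on injectivity of a matrix

For a matrix `M : Matrix (Fin n) (Fin m) R` over a commutative ring, `M.mulVecLin` is injective iff
the annihilator of the ideal of `m × m` minors is zero.
-/

set_option autoImplicit false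
universe u

namespace Groth.Agent.H5

open Matrix

variable {R : Type u} [CommRing R] {m n : ℕ} (M : Matrix (Fin n) (Fin m) R)

lemma minorIdeal_eq_bot_of_lt {r : ℕ} (hr : m < r) : CAlgX.minorIdeal M r = ⊥ := by
  rw [CAlgX.minorIdeal, Ideal.span_eq_bot]
  rintro _ ⟨⟨f, g⟩, rfl⟩
  obtain ⟨i, j, hij, hg⟩ : ∃ i j, i ≠ j ∧ g i = g j := by
    by_contra h
    push Not at h
    have hinj : Function.Injective g := fun i j hij => by
      by_contra hne
      exact h i j hne hij
    have := Fintype.card_le_of_injective g hinj
    simp only [Fintype.card_fin] at this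
    omega
  exact Matrix.det_zero_of_column_eq hij (fun k => by simp [hg])

lemma minorIdeal_zero : CAlgX.minorIdeal M 0 = ⊤ := by
  rw [CAlgX.minorIdeal, Ideal.eq_top_iff_one]
  apply Ideal.subset_span
  refine ⟨(Fin.elim0, Fin.elim0), ?_⟩
  simp

/-- McCoy, easy direction. -/
lemma injective_of_annihilator_minorIdeal_eq_bot
    (h : (CAlgX.minorIdeal M m).annihilator = ⊥) : Function.Injective (Matrix.mulVecLin M) := by
  classical
  rw [injective_iff_map_eq_zero]
  intro x hx
  have hx' : M.mulVec x = 0 := hx
  have key : ∀ j, x j ∈ (CAlgX.minorIdeal M m).annihilator := by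
    intro j
    rw [CAlgX.minorIdeal, Submodule.mem_annihilator_span]
    rintro ⟨_, ⟨f, g⟩, rfl⟩
    show x j • (M.submatrix f g).det = 0
    by_cases hg : Function.Injective g
    · have hbij : Function.Bijective g := Finite.injective_iff_bijective.mp hg
      set B := M.submatrix f g with hB
      have hBy : B.mulVec (x ∘ g) = 0 := by
        funext i
        have := congrFun hx' (f i)
        simp only [Matrix.mulVec, dotProduct, Pi.zero_apply] at this ⊢
        rw [← this]
        exact Fintype.sum_bijective g hbij _ _ (fun k => rfl)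
      have hdet : B.det • (x ∘ g) = 0 := by
        have h1 : (B.adjugate * B).mulVec (x ∘ g) = 0 := by
          rw [← Matrix.mulVec_mulVec, hBy, Matrix.mulVec_zero]
        rwa [Matrix.adjugate_mul, Matrix.smul_mulVec, Matrix.one_mulVec] at h1
      obtain ⟨k, rfl⟩ := hbij.2 j
      have := congrFun hdet k
      simp only [Pi.smul_apply, Function.comp_apply, smul_eq_mul, Pi.zero_apply] at this
      rw [smul_eq_mul, mul_comm]
      exact this
    · have : ∃ i j, i ≠ j ∧ g i = g j := by
        by_contra hcon
        push Not at hcon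
        exact hg (fun i j hij => by
          by_contra hne
          exact hcon i j hne hij)
      obtain ⟨i, k, hik, hgik⟩ := this
      rw [Matrix.det_zero_of_column_eq hik (fun l => by simp [hgik]), smul_zero]
  funext j
  have := key j
  rw [h] at this
  simpa using this

/-- McCoy, hard direction. -/
lemma annihilator_minorIdeal_eq_bot_of_injective
    (h : Function.Injective (Matrix.mulVecLin M)) : (CAlgX.minorIdeal M m).annihilator = ⊥ := by
  classical
  rw [eq_bot_iff]
  intro a ha
  rw [Ideal.mem_bot]
  by_contra ha0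
  -- P r : a kills all r-minors
  let P : ℕ → Prop := fun r => ∀ (f : Fin r → Fin n) (g : Fin r → Fin m),
    a * (M.submatrix f g).det = 0
  have hPm : P m := by
    intro f g
    rw [CAlgX.minorIdeal, Submodule.mem_annihilator_span] at ha
    exact ha ⟨_, ⟨(f, g), rfl⟩⟩
  have hP0 : ¬ P 0 := by
    intro h0
    have := h0 Fin.elim0 Fin.elim0
    simp at this
    exact ha0 this
  have hex : ∃ r, P r := ⟨m, hPm⟩
  set r₀ := Nat.find hex with hr₀
  have hr₀P : P r₀ := Nat.find_spec hex
  have hr₀pos : r₀ ≠ 0 := by
    intro h0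
    rw [h0] at hr₀P
    exact hP0 hr₀P
  obtain ⟨r, hr⟩ := Nat.exists_eq_succ_of_ne_zero hr₀pos
  have hrm : r + 1 ≤ m := by
    have : r₀ ≤ m := Nat.find_min' hex hPm
    omega
  have hPr : ¬ P r := Nat.find_min hex (by omega)
  have hPr1 : P (r + 1) := by
    have : r₀ = r + 1 := hr
    rw [← this]; exact hr₀P
  simp only [P] at hPr
  push Not at hPr
  obtain ⟨f, g, hfg⟩ := hPr
  -- g is not surjective
  have hgns : ¬ Function.Surjective g := by
    intro hs
    have := Fintype.card_le_of_surjective g hs
    simp only [Fintype.card_fin] at this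
    omega
  simp only [Function.Surjective] at hgns
  push Not at hgns
  obtain ⟨t₀, ht₀⟩ := hgns
  let g' : Fin (r + 1) → Fin m := Fin.cons t₀ g
  let c : Fin (r + 1) → R := fun j =>
    (-1) ^ (j : ℕ) * a * (M.submatrix f (g' ∘ j.succAbove)).det
  let x : Fin m → R := ∑ j : Fin (r + 1), c j • (Pi.single (g' j) (1 : R) : Fin m → R)
  have hMx : M.mulVec x = 0 := by
    funext i
    have hdet := Matrix.det_succ_row_zero (M.submatrix (Fin.cons i f : Fin (r + 1) → Fin n) g')
    have h0 := hPr1 (Fin.cons i f : Fin (r + 1) → Fin n) g'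
    rw [hdet, Finset.mul_sum] at h0
    simp only [x, Matrix.mulVec_sum, Matrix.mulVec_smul, Matrix.mulVec_single_one,
      Finset.sum_apply, Pi.smul_apply, smul_eq_mul, Pi.zero_apply]
    rw [← h0]
    refine Finset.sum_congr rfl fun j _ => ?_
    have hsub : (M.submatrix (Fin.cons i f : Fin (r + 1) → Fin n) g').submatrix Fin.succ
        j.succAbove = M.submatrix f (g' ∘ j.succAbove) := by
      ext p q
      simp [Matrix.submatrix_apply]
    rw [hsub]
    simp only [c, Matrix.submatrix_apply, Fin.cons_zero, Matrix.col_apply]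
    ring
  have hx0 : x = 0 := h (by
    show Matrix.mulVecLin M x = Matrix.mulVecLin M 0
    rw [map_zero]; exact hMx)
  have hxt : x t₀ = a * (M.submatrix f g).det := by
    simp only [x, Finset.sum_apply, Pi.smul_apply, smul_eq_mul]
    rw [Finset.sum_eq_single (0 : Fin (r + 1))]
    · have hg0 : g' 0 = t₀ := rfl
      have hsucc : g' ∘ (0 : Fin (r + 1)).succAbove = g := by
        funext k
        simp [g', Fin.succAbove_zero]
      simp only [c, hg0, Pi.single_eq_same, mul_one, hsucc, Fin.val_zero, pow_zero, one_mul]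
    · intro j _ hj0
      obtain ⟨k, rfl⟩ := Fin.exists_succ_eq.mpr hj0
      have : g' k.succ ≠ t₀ := by
        simp only [g', Fin.cons_succ]
        exact ht₀ k
      rw [Pi.single_eq_of_ne' this, mul_zero]
    · intro h0; exact absurd (Finset.mem_univ _) h0
  rw [hx0] at hxt
  exact hfg hxt.symm

theorem injective_iff_annihilator_minorIdeal_eq_bot :
    Function.Injective (Matrix.mulVecLin M) ↔ (CAlgX.minorIdeal M m).annihilator = ⊥ :=
  ⟨annihilator_minorIdeal_eq_bot_of_injective M, injective_of_annihilator_minorIdeal_eq_bot M⟩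

/-- The rank is `m` iff the ideal of `m`-minors is nonzero. -/
lemma matrixRank_eq_iff [Nontrivial R] :
    CAlgX.matrixRank M = m ↔ CAlgX.minorIdeal M m ≠ ⊥ := by
  have hbdd : BddAbove {r : ℕ | CAlgX.minorIdeal M r ≠ ⊥} := by
    refine ⟨m, fun r hr => ?_⟩
    by_contra hlt
    exact hr (minorIdeal_eq_bot_of_lt M (not_le.mp hlt))
  have hne : ({r : ℕ | CAlgX.minorIdeal M r ≠ ⊥}).Nonempty := by
    refine ⟨0, ?_⟩
    show CAlgX.minorIdeal M 0 ≠ ⊥
    rw [minorIdeal_zero]
    exact top_ne_bot
  constructor
  · intro hrank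
    have := Nat.sSup_mem hne hbdd
    rw [show sSup {r : ℕ | CAlgX.minorIdeal M r ≠ ⊥} = m from hrank] at this
    exact this
  · intro hm
    show sSup {r : ℕ | CAlgX.minorIdeal M r ≠ ⊥} = m
    apply le_antisymm
    · exact csSup_le hne (fun r hr => by
        by_contra hlt
        exact hr (minorIdeal_eq_bot_of_lt M (not_le.mp hlt)))
    · exact le_csSup hbdd hm

/-- McCoy's theorem in the form with the rank and the determinantal ideal. -/
theorem injective_iff_rank_and_annihilator [Nontrivial R] :
    Function.Injective (Matrix.mulVecLin M) ↔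
      CAlgX.matrixRank M = m ∧ (CAlgX.detIdeal M).annihilator = ⊥ := by
  rw [injective_iff_annihilator_minorIdeal_eq_bot]
  constructor
  · intro h
    have hne : CAlgX.minorIdeal M m ≠ ⊥ := by
      intro hbot
      rw [hbot, Submodule.annihilator_bot] at h
      exact top_ne_bot h
    have hrank := (matrixRank_eq_iff M).mpr hne
    refine ⟨hrank, ?_⟩
    rw [CAlgX.detIdeal, hrank]
    exact h
  · rintro ⟨hrank, h⟩
    rw [CAlgX.detIdeal, hrank] at h
    exact h

end Groth.Agent.H5
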