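import Mathlib.AlgebraicGeometry.Morphisms.SchemeTheoreticallyDominant
import Mathlib.AlgebraicGeometry.Properties

/-! Scheme-theoretic density of reduced open subschemes (no quasi-compactness). -/

set_option autoImplicit false
universe u
open AlgebraicGeometry CategoryTheory Limits TopologicalSpace

namespace Groth.Agent.H5

/-- The vanishing ideal of the closure of a reduced open subscheme is contained in the kernel. -/
theorem vanishingIdeal_closure_le_ker (X : Scheme.{u}) (U : X.Opens) [IsReduced (↑U : Scheme.{u})] :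
    Scheme.IdealSheafData.vanishingIdeal ⟨closure (U : Set X), isClosed_closure⟩ ≤ U.ι.ker := by
  rw [Scheme.Hom.ker, Scheme.IdealSheafData.le_ofIdeals_iff]
  intro V s hs
  rw [Scheme.IdealSheafData.vanishingIdeal_ideal, PrimeSpectrum.mem_vanishingIdeal] at hs
  rw [RingHom.mem_ker]
  apply eq_zero_of_basicOpen_eq_bot
  rw [← Scheme.Hom.preimage_basicOpen]
  ext x
  simp only [Opens.coe_bot, Set.mem_empty_iff_false, iff_false]
  intro hx
  have hxV : (U.ι x) ∈ V.1 := X.basicOpen_le s hx
  have h1 := hs (V.2.primeIdealOf ⟨U.ι x, hxV⟩) (by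
    rw [Set.mem_preimage, V.2.fromSpec_primeIdealOf]
    exact subset_closure x.2)
  have h2 : V.2.primeIdealOf ⟨U.ι x, hxV⟩ ∈ PrimeSpectrum.basicOpen s := by
    rw [← V.2.fromSpec_preimage_basicOpen]
    change V.2.fromSpec (V.2.primeIdealOf ⟨U.ι x, hxV⟩) ∈ X.basicOpen s
    rw [V.2.fromSpec_primeIdealOf]
    exact hx
  exact h2 h1


theorem dense_of_ker_eq_bot (X : Scheme.{u}) (U : X.Opens) [IsReduced (↑U : Scheme.{u})]
    (h : U.ι.ker = ⊥) : Dense (U : Set X) := by
  have h1 := vanishingIdeal_closure_le_ker X U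
  rw [h, le_bot_iff] at h1
  have h2 := Scheme.IdealSheafData.coe_support_vanishingIdeal
    (⟨closure (U : Set X), isClosed_closure⟩ : Closeds X)
  rw [h1, Scheme.IdealSheafData.support_bot] at h2
  rw [dense_iff_closure_eq]
  exact h2.symm

theorem isReduced_of_ker_eq_bot (X : Scheme.{u}) (U : X.Opens) [IsReduced (↑U : Scheme.{u})]
    (h : U.ι.ker = ⊥) : IsReduced X := by
  have h1 := vanishingIdeal_closure_le_ker X U
  rw [h, le_bot_iff] at h1
  have h2 : X.nilradical = ⊥ := by
    rw [← le_bot_iff, ← h1, ← Scheme.IdealSheafData.vanishingIdeal_top]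
    exact Scheme.IdealSheafData.vanishingIdeal_antimono le_top
  have h3 : ∀ V : X.affineOpens, _root_.IsReduced Γ(X, V.1) := by
    intro V
    have : (X.nilradical).ideal V = ⊥ := by rw [h2]; rfl
    rw [Scheme.nilradical, Scheme.IdealSheafData.radical_ideal] at this
    simp only [Scheme.IdealSheafData.ideal_bot, Pi.bot_apply] at this
    exact nilradical_eq_bot_iff.mp this
  let 𝒰 : X.OpenCover := X.openCoverOfIsOpenCover (fun V : X.affineOpens => V.1)
    (iSup_affineOpens_eq_top X)
  have : ∀ i, IsReduced (𝒰.X i) := by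
    intro V
    have : IsAffine (𝒰.X V) := V.2
    have : _root_.IsReduced Γ(𝒰.X V, ⊤) := by
      have e : Γ(𝒰.X V, ⊤) ≅ Γ(X, V.1) := V.1.topIso
      have := h3 V
      exact isReduced_of_injective e.hom.hom e.commRingCatIsoToRingEquiv.injective
    exact isReduced_of_isAffine_isReduced _
  exact IsReduced.of_openCover _ 𝒰


end Groth.Agent.H5
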