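import Mathlib.Algebra.Polynomial.Derivative
import Mathlib.Algebra.Polynomial.Taylor
import Mathlib.Algebra.Polynomial.Div
import Mathlib.LinearAlgebra.Matrix.Determinant.Basic
import Mathlib.LinearAlgebra.Vandermonde
import Mathlib.LinearAlgebra.Dimension.Finrank
import Mathlib.LinearAlgebra.FiniteDimensional.Lemmas
import Mathlib.RingTheory.Polynomial.Pochhammer
import Mathlib.RingTheory.Polynomial.Basic

/-! Adapted bases of filtered vector spaces, and Wronskians of polynomials (helper5). -/

set_option autoImplicit false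

namespace H5W

open Polynomial Module

section filtration

variable {k M : Type*} [Field k] [AddCommGroup M] [Module k M]

/-- One step of a filtration cut out by a linear functional costs at most one dimension. -/
theorem finrank_inf_le_succ (U A B : Submodule k M) [FiniteDimensional k U] (φ : M →ₗ[k] k)
    (h : ∀ f ∈ A, φ f = 0 → f ∈ B) :
    finrank k ↥(U ⊓ A) ≤ finrank k ↥(U ⊓ B) + 1 := by
  have hfin : FiniteDimensional k ↥(U ⊓ A) := Submodule.finiteDimensional_of_le inf_le_left
  let ψ : ↥(U ⊓ A) →ₗ[k] k := φ.comp (U ⊓ A).subtype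
  have h1 := LinearMap.finrank_range_add_finrank_ker ψ
  have h2 : finrank k (LinearMap.range ψ) ≤ 1 := by
    have := Submodule.finrank_le (LinearMap.range ψ)
    rwa [finrank_self] at this
  have h3 : finrank k (LinearMap.ker ψ) ≤ finrank k ↥(U ⊓ B) := by
    have hfinB : FiniteDimensional k ↥(U ⊓ B) := Submodule.finiteDimensional_of_le inf_le_left
    let ι : LinearMap.ker ψ →ₗ[k] ↥(U ⊓ B) :=
      { toFun := fun x => ⟨x.1.1, x.1.2.1, h _ x.1.2.2 x.2⟩
        map_add' := fun _ _ => rfl
        map_smul' := fun _ _ => rfl }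
    refine LinearMap.finrank_le_finrank_of_injective (f := ι) ?_
    intro x y hxy
    apply Subtype.ext
    apply Subtype.ext
    exact congrArg (fun z : ↥(U ⊓ B) => (z : M)) hxy
  omega

/-- **Adapted basis** of a finite-dimensional subspace with respect to a decreasing filtration
whose steps have codimension at most one. -/
theorem exists_adapted_basis (F : ℕ → Submodule k M) (hF : Antitone F)
    (hstep : ∀ (U : Submodule k M) [FiniteDimensional k U] (n : ℕ),
      finrank k ↥(U ⊓ F n) ≤ finrank k ↥(U ⊓ F (n + 1)) + 1) (N : ℕ) :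
    ∀ (s : ℕ) (U : Submodule k M), FiniteDimensional k U → finrank k U = s → U ≤ F 0 →
      U ⊓ F N = ⊥ →
      ∃ (g : Fin s → M) (m : Fin s → ℕ), StrictMono m ∧
        (∀ i, g i ∈ U ∧ g i ∈ F (m i) ∧ g i ∉ F (m i + 1)) ∧ LinearIndependent k g ∧
        ∑ n ∈ Finset.range N, finrank k ↥(U ⊓ F (n + 1)) = ∑ i, m i := by
  intro s
  induction s with
  | zero =>
    intro U hfin hU _ _
    refine ⟨Fin.elim0, Fin.elim0, fun i => i.elim0, fun i => i.elim0, linearIndependent_empty_type,
      ?_⟩
    have hbot : U = ⊥ := by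
      rw [← Submodule.finrank_eq_zero (R := k)]; exact hU
    simp [hbot]
  | succ s ih =>
    intro U hfin hU hU0 hUN
    classical
    -- the largest `n ≤ N` with `U ≤ F n`
    let m₀ := Nat.findGreatest (fun n => U ≤ F n) N
    have hm₀ : U ≤ F m₀ := Nat.findGreatest_spec (P := fun n => U ≤ F n) (Nat.zero_le N) hU0
    have hUne : U ≠ ⊥ := by
      intro h
      rw [h, finrank_bot] at hU
      omega
    have hm₀N : m₀ < N := by
      by_contra hge
      have hle : m₀ ≤ N := Nat.findGreatest_le N
      have : m₀ = N := by omega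
      rw [this] at hm₀
      exact hUne (by rw [← hUN]; exact (inf_eq_left.2 hm₀).symm)
    have hnot : ¬ U ≤ F (m₀ + 1) :=
      Nat.findGreatest_is_greatest (P := fun n => U ≤ F n) (Nat.lt_succ_self m₀) (by omega)
    set U' := U ⊓ F (m₀ + 1) with hU'
    have hfin' : FiniteDimensional k U' := Submodule.finiteDimensional_of_le inf_le_left
    have hU'lt : U' < U := lt_of_le_of_ne inf_le_left (fun h => hnot (by rw [← h]; exact inf_le_right))
    have hrank' : finrank k U' = s := by
      have h1 := Submodule.finrank_lt_finrank_of_lt hU'lt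
      have h2 : finrank k ↥(U ⊓ F m₀) ≤ finrank k ↥U' + 1 := hstep U m₀
      rw [inf_eq_left.2 hm₀, hU] at h2
      omega
    obtain ⟨g₀, hg₀U, hg₀⟩ : ∃ g₀ ∈ U, g₀ ∉ F (m₀ + 1) := by
      by_contra hcon
      push Not at hcon
      exact hnot hcon
    obtain ⟨g', m', hm'mono, hg', hli', hsum'⟩ := ih U' hfin' hrank'
      (inf_le_left.trans hU0) (by rw [hU', inf_assoc, inf_eq_right.2 (hF (by omega : m₀ + 1 ≤ N))]
                                  exact hUN)
    have hm'gt : ∀ i, m₀ < m' i := by
      intro i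
      by_contra hle
      rw [not_lt] at hle
      exact (hg' i).2.2 (hF (by omega : m' i + 1 ≤ m₀ + 1) (hg' i).1.2)
    refine ⟨Fin.cons g₀ g', Fin.cons m₀ m', ?_, ?_, ?_, ?_⟩
    · intro i j hij
      induction i using Fin.cases with
      | zero =>
        induction j using Fin.cases with
        | zero => exact absurd hij (lt_irrefl _)
        | succ j' => simpa using hm'gt j'
      | succ i' =>
        induction j using Fin.cases with
        | zero => exact absurd hij (Fin.not_lt_zero _)
        | succ j' =>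
          simp only [Fin.cons_succ]
          exact hm'mono (Fin.succ_lt_succ_iff.1 hij)
    · intro i
      induction i using Fin.cases with
      | zero => exact ⟨hg₀U, hm₀ hg₀U, hg₀⟩
      | succ i' =>
        simp only [Fin.cons_succ]
        exact ⟨(hg' i').1.1, (hg' i').2.1, (hg' i').2.2⟩
    · refine hli'.finCons ?_
      intro hmem
      have hle : Submodule.span k (Set.range g') ≤ F (m₀ + 1) := by
        rw [Submodule.span_le]
        rintro _ ⟨i, rfl⟩
        exact (hg' i).1.2
      exact hg₀ (hle hmem)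
    · rw [Fin.sum_cons, ← hsum']
      have hterm : ∀ n ∈ Finset.range N, finrank k ↥(U ⊓ F (n + 1)) =
          finrank k ↥(U' ⊓ F (n + 1)) + (if n < m₀ then 1 else 0) := by
        intro n _
        by_cases hn : n < m₀
        · rw [if_pos hn]
          have h1 : U ≤ F (n + 1) := hm₀.trans (hF (by omega))
          have h2 : U' ≤ F (n + 1) := inf_le_left.trans h1
          rw [inf_eq_left.2 h1, inf_eq_left.2 h2, hU, hrank']
        · rw [if_neg hn, add_zero, hU', inf_assoc, inf_eq_right.2 (hF (by omega : m₀ + 1 ≤ n + 1))]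
      rw [Finset.sum_congr rfl hterm, Finset.sum_add_distrib, Finset.sum_boole, add_comm]
      congr 1
      have : (Finset.range N).filter (fun n => n < m₀) = Finset.range m₀ := by
        ext n
        simp only [Finset.mem_filter, Finset.mem_range]
        omega
      rw [this]
      simp

end filtration


section wronskian

variable {k : Type*} [Field k]

/-- The Wronskian determinant of a family of polynomials. -/
noncomputable def wr {n : ℕ} (g : Fin n → k[X]) : k[X] :=
  (Matrix.of fun i j : Fin n => derivative^[(i : ℕ)] (g j)).det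

/-- Behaviour under a linear change of the family. -/
theorem wr_comb {n : ℕ} (g : Fin n → k[X]) (c : Matrix (Fin n) (Fin n) k) :
    wr (fun j => ∑ l, c l j • g l) = c.det • wr g := by
  unfold wr
  have hM : (Matrix.of fun i j : Fin n => derivative^[(i : ℕ)] (∑ l, c l j • g l)) =
      (Matrix.of fun i j : Fin n => derivative^[(i : ℕ)] (g j)) * (C : k →+* k[X]).mapMatrix c := by
    refine Matrix.ext (fun i j => ?_)
    rw [Matrix.of_apply, Matrix.mul_apply, iterate_derivative_sum]
    refine Finset.sum_congr rfl (fun l _ => ?_)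
    rw [iterate_derivative_smul, Matrix.of_apply, RingHom.mapMatrix_apply, Matrix.map_apply,
      smul_eq_C_mul, mul_comm]
  rw [hM, Matrix.det_mul, ← RingHom.map_det, smul_eq_C_mul, mul_comm]

lemma sum_perm_val {n : ℕ} (σ : Equiv.Perm (Fin n)) :
    ∑ i, ((σ i : Fin n) : ℕ) = ∑ i : Fin n, (i : ℕ) :=
  Fintype.sum_equiv σ _ _ (fun _ => rfl)

/-- Vanishing of the Wronskian. -/
theorem pow_dvd_wr {n : ℕ} (g : Fin n → k[X]) (q : k[X]) (m : Fin n → ℕ)
    (h : ∀ j, q ^ m j ∣ g j) : q ^ (∑ j, m j - ∑ i : Fin n, (i : ℕ)) ∣ wr g := by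
  unfold wr
  rw [Matrix.det_apply']
  refine Finset.dvd_sum (fun σ _ => Dvd.dvd.mul_left ?_ _)
  have h1 : ∏ i, q ^ (m i - (σ i : ℕ)) ∣ ∏ i, (Matrix.of fun i j : Fin n =>
      derivative^[(i : ℕ)] (g j)) (σ i) i := by
    refine Finset.prod_dvd_prod_of_dvd _ _ (fun i _ => ?_)
    rw [Matrix.of_apply]
    exact pow_sub_dvd_iterate_derivative_of_pow_dvd _ (h i)
  refine dvd_trans ?_ h1
  rw [Finset.prod_pow_eq_pow_sum]
  apply pow_dvd_pow
  have h2 : ∑ j, m j ≤ ∑ i, (m i - (σ i : ℕ)) + ∑ i, ((σ i : Fin n) : ℕ) := by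
    rw [← Finset.sum_add_distrib]
    exact Finset.sum_le_sum (fun i _ => by omega)
  rw [sum_perm_val] at h2
  omega

/-- Degree of the Wronskian. -/
theorem natDegree_wr_le {n : ℕ} (g : Fin n → k[X]) (h : wr g ≠ 0) :
    natDegree (wr g) + ∑ i : Fin n, (i : ℕ) ≤ ∑ j, natDegree (g j) := by
  unfold wr at h ⊢
  rw [Matrix.det_apply'] at h ⊢
  have key : ∀ σ : Equiv.Perm (Fin n), (∏ i, (Matrix.of fun i j : Fin n =>
      derivative^[(i : ℕ)] (g j)) (σ i) i) ≠ 0 →
      (∑ i : Fin n, (i : ℕ) ≤ ∑ j, natDegree (g j)) ∧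
      natDegree (∏ i, (Matrix.of fun i j : Fin n => derivative^[(i : ℕ)] (g j)) (σ i) i) ≤
        ∑ j, natDegree (g j) - ∑ i : Fin n, (i : ℕ) := by
    intro σ hσ
    have hle : ∀ i, ((σ i : Fin n) : ℕ) ≤ natDegree (g i) := by
      intro i
      by_contra hlt
      rw [not_le] at hlt
      apply hσ
      refine Finset.prod_eq_zero (Finset.mem_univ i) ?_
      rw [Matrix.of_apply]
      exact iterate_derivative_eq_zero hlt
    have hsum : ∑ i, (natDegree (g i) - ((σ i : Fin n) : ℕ)) + ∑ i : Fin n, (i : ℕ) =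
        ∑ j, natDegree (g j) := by
      rw [← sum_perm_val σ, ← Finset.sum_add_distrib]
      exact Finset.sum_congr rfl (fun i _ => Nat.sub_add_cancel (hle i))
    refine ⟨by omega, ?_⟩
    refine (natDegree_prod_le _ _).trans ?_
    have : ∑ i, natDegree ((Matrix.of fun i j : Fin n => derivative^[(i : ℕ)] (g j)) (σ i) i) ≤
        ∑ i, (natDegree (g i) - ((σ i : Fin n) : ℕ)) := by
      refine Finset.sum_le_sum (fun i _ => ?_)
      rw [Matrix.of_apply]
      exact natDegree_iterate_derivative _ _
    omega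
  obtain ⟨σ₀, -, hσ₀⟩ := Finset.exists_ne_zero_of_sum_ne_zero h
  have hσ₀' := (key σ₀ (right_ne_zero_of_mul hσ₀)).1
  have hdeg : natDegree (∑ σ : Equiv.Perm (Fin n), (↑↑(Equiv.Perm.sign σ) : k[X]) *
      ∏ i, (Matrix.of fun i j : Fin n => derivative^[(i : ℕ)] (g j)) (σ i) i) ≤
      ∑ j, natDegree (g j) - ∑ i : Fin n, (i : ℕ) := by
    refine natDegree_sum_le_of_forall_le _ _ (fun σ _ => ?_)
    by_cases hσ : (∏ i, (Matrix.of fun i j : Fin n => derivative^[(i : ℕ)] (g j)) (σ i) i) = 0
    · rw [hσ, mul_zero, natDegree_zero]; exact Nat.zero_le _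
    · refine (natDegree_mul_le).trans ?_
      have h1 : natDegree ((↑↑(Equiv.Perm.sign σ) : k[X])) = 0 := natDegree_intCast _
      have h2 := (key σ hσ).2
      omega
  omega


lemma coeff_X_pow_mul_iterate_derivative (i : ℕ) (p : k[X]) (t : ℕ) :
    (X ^ i * derivative^[i] p).coeff t = (t.descFactorial i : k) * p.coeff t := by
  rw [coeff_X_pow_mul']
  split_ifs with hit
  · rw [coeff_iterate_derivative, Nat.sub_add_cancel hit, nsmul_eq_mul]
  · rw [not_le] at hit
    rw [Nat.descFactorial_eq_zero_iff_lt.2 hit]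
    simp

/-- Non-vanishing of the Wronskian of polynomials with distinct orders at `0`
(characteristic zero). -/
theorem wr_ne_zero [CharZero k] {n : ℕ} (g : Fin n → k[X]) (m : Fin n → ℕ)
    (hm : Function.Injective m) (hdvd : ∀ j, X ^ m j ∣ g j) (hc : ∀ j, (g j).coeff (m j) ≠ 0) :
    wr g ≠ 0 := by
  have hdvd' : ∀ i j : Fin n, X ^ m j ∣ X ^ (i : ℕ) * derivative^[(i : ℕ)] (g j) := by
    intro i j
    rw [X_pow_dvd_iff]
    intro t ht
    rw [coeff_X_pow_mul_iterate_derivative, X_pow_dvd_iff.1 (hdvd j) t ht, mul_zero]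
  choose h hh using hdvd'
  have h0 : ∀ i j : Fin n, (h i j).coeff 0 = ((m j).descFactorial (i : ℕ) : k) * (g j).coeff (m j) := by
    intro i j
    have := congrArg (fun p => p.coeff (0 + m j)) (hh i j)
    simp only [coeff_X_pow_mul] at this
    rw [← this, zero_add, coeff_X_pow_mul_iterate_derivative]
  set A : Matrix (Fin n) (Fin n) k[X] := Matrix.of fun i j : Fin n => derivative^[(i : ℕ)] (g j)
    with hA
  set H : Matrix (Fin n) (Fin n) k[X] := Matrix.of h with hH
  have e1 : (Matrix.of fun i j : Fin n => X ^ (i : ℕ) * A i j).det =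
      (∏ i : Fin n, (X : k[X]) ^ (i : ℕ)) * A.det := Matrix.det_mul_column _ _
  have e2 : (Matrix.of fun i j : Fin n => X ^ (i : ℕ) * A i j) =
      Matrix.of fun i j : Fin n => X ^ (m j) * H i j := by
    refine Matrix.ext (fun i j => ?_)
    simp only [Matrix.of_apply, hA, hH]
    exact hh i j
  have e3 : (Matrix.of fun i j : Fin n => X ^ (m j) * H i j).det =
      (∏ j : Fin n, (X : k[X]) ^ (m j)) * H.det := Matrix.det_mul_row _ _
  have hHdet : H.det ≠ 0 := by
    intro hz
    have h1 : (evalRingHom (0 : k)) H.det = 0 := by rw [hz, map_zero]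
    rw [RingHom.map_det] at h1
    have h2 : (evalRingHom (0 : k)).mapMatrix H =
        Matrix.of fun i j : Fin n => (g j).coeff (m j) *
          (Matrix.of fun i j : Fin n => ((m j).descFactorial (i : ℕ) : k)) i j := by
      refine Matrix.ext (fun i j => ?_)
      simp only [RingHom.mapMatrix_apply, Matrix.map_apply, Matrix.of_apply, hH, coe_evalRingHom]
      rw [← coeff_zero_eq_eval_zero, h0, mul_comm]
    rw [h2, Matrix.det_mul_row] at h1
    have h3 : (∏ j : Fin n, (g j).coeff (m j)) ≠ 0 := Finset.prod_ne_zero_iff.2 (fun j _ => hc j)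
    have h4 : (Matrix.of fun i j : Fin n => ((m j).descFactorial (i : ℕ) : k)).det ≠ 0 := by
      have hv := Matrix.det_eval_matrixOfPolynomials_eq_det_vandermonde
        (fun i : Fin n => ((m i : ℕ) : k)) (fun j : Fin n => descPochhammer k (j : ℕ))
        (fun j => descPochhammer_natDegree k j) (fun j => monic_descPochhammer k j)
      have ht : (Matrix.of fun i j : Fin n => ((m j).descFactorial (i : ℕ) : k)) =
          (Matrix.of fun i j : Fin n =>
            (descPochhammer k (j : ℕ)).eval ((m i : ℕ) : k)).transpose := by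
        refine Matrix.ext (fun i j => ?_)
        simp only [Matrix.of_apply, Matrix.transpose_apply]
        rw [descPochhammer_eval_eq_descFactorial]
      rw [ht, Matrix.det_transpose, ← hv, Matrix.det_vandermonde_ne_zero_iff]
      exact fun a b hab => hm (Nat.cast_injective hab)
    exact (mul_ne_zero h3 h4) h1
  intro hwr
  have hAdet : A.det = 0 := hwr
  rw [e2, e3, hAdet, mul_zero] at e1
  have hX : (∏ j : Fin n, (X : k[X]) ^ (m j)) ≠ 0 :=
    Finset.prod_ne_zero_iff.2 (fun j _ => pow_ne_zero _ X_ne_zero)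
  exact (mul_ne_zero hX hHdet) e1

end wronskian

end H5W
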